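import Cfsg.Agent.Lib.Goldschmidt.ThreeInv.Chars.Term
import Cfsg.Agent.Lib.Goldschmidt.ThreeInv.Assembly

/-!
# Three involutions, section 3: the characters exclude the configuration (owner: helper84)

Proof: `../../THREE_INVOLUTIONS_SECTION3.md`.

* `TorusData.false_of_cent` : the block equation has a positive total
* `charsTarget`             : section 3
-/

set_option autoImplicit false
set_option linter.unusedSectionVars false

namespace Cfsg.Agent.Goldschmidt.ThreeInv

open Cfsg Subgroup Blocks SecondMain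

universe u

variable {G : Type u} [Group G] [Finite G] {S : Sylow 2 G} {A : Subgroup G}

/-- A family with negative terms `u² w / N`, `N ≥ 320 |w|`, `∑ u² ≤ 319`, cannot cancel the trivial term. -/
theorem false_of_terms {ι : Type*} (P : Finset ι) (u w N : ι → ℝ) (hN : ∀ i ∈ P, 0 < N i)
    (hw : ∀ i ∈ P, -(N i) ≤ 320 * w i) (hu : ∑ i ∈ P, u i ^ 2 ≤ 319)
    (h0 : 1 + ∑ i ∈ P, u i ^ 2 / N i * w i = 0) : False := by
  have h1 : ∑ i ∈ P, -(u i ^ 2) / 320 ≤ ∑ i ∈ P, u i ^ 2 / N i * w i := Finset.sum_le_sum fun i hi => by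
    rw [div_mul_eq_mul_div, div_le_div_iff₀ (by norm_num) (hN i hi)]
    nlinarith [sq_nonneg (u i), hw i hi]
  rw [← Finset.sum_div, Finset.sum_neg_distrib] at h1
  linarith

/-- The configuration of sections 1 and 2 does not exist. -/
theorem TorusData.false_of_cent [IsSimpleGroup G] {T : G → Subgroup G} (hT : TorusData S A T)
    (h : Setting S A) (hC : TorusCent S A T) : False := by
  classical
  obtain ⟨a, ha, ha1⟩ := h.exists_ne_one
  obtain ⟨σ, hσ, hσa⟩ := h.exists_root ha ha1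
  obtain ⟨M, hM⟩ := Cfsg.Agent.Blocks.exists_isPModular Nat.prime_two
  have := Fintype.ofFinite (IrrCharacter G)
  choose u hu using fun χ : IrrCharacter G =>
    SelfCentThree.exists_int_of_sq (Char.IsIrrCharacter.isCharacter χ.2) (g := a) (by rw [pow_two, h.sq ha])
  have hinv : ∀ χ : IrrCharacter G, (χ : G → ℂ) σ⁻¹ = (χ : G → ℂ) σ := fun χ => by
    obtain ⟨t, -, ht⟩ := h.inv_roots ha1 hσ hσa
    rw [← ht, Char.IsIrrCharacter.isClassFunction χ.2]
  choose w hw using fun χ : IrrCharacter G =>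
    exists_int_of_pow_four (Char.IsIrrCharacter.isCharacter χ.2)
      (show σ ^ 4 = 1 by rw [show σ ^ 4 = (σ * σ) * (σ * σ) by simp [pow_succ, mul_assoc], hσa, h.sq ha])
      (hinv χ)
  set N : IrrCharacter G → ℕ := fun χ => charDegree (χ : G → ℂ)
  have hN : ∀ χ : IrrCharacter G, (χ : G → ℂ) 1 = (N χ : ℂ) := fun χ => ClassCount.apply_one_eq_charDegree χ
  set B := (principalBlock M G).toFinset
  set one := BrauerPairs.oneIrr G
  have hone : one ∈ B := Set.mem_toFinset.2 (BrauerPairs.oneIrr_mem_principal hM)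
  have hu1 : u one = 1 := Int.cast_injective (α := ℂ) (by rw [← hu one]; simp [one, BrauerPairs.oneIrr])
  have hw1 : w one = 1 := Int.cast_injective (α := ℂ) (by rw [← hw one]; simp [one, BrauerPairs.oneIrr])
  have hN1 : N one = 1 := Nat.cast_injective (R := ℂ) (by rw [← hN one]; simp [one, BrauerPairs.oneIrr])
  have su : ∑ χ ∈ B, (u χ : ℝ) ^ 2 ≤ 320 := by
    refine le_trans (le_of_eq (Finset.sum_congr rfl fun χ _ => ?_)) (hT.sum_normSq_apply_le h ha ha1 B
      fun χ hχ ρ hρ => hT.apply_mul_inv h ha ha1 hM (Set.mem_toFinset.1 hχ) hρ)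
    rw [hu, Complex.normSq_intCast, ← pow_two]
  have sz : ∑ χ ∈ B, (u χ : ℝ) ^ 2 / (N χ : ℝ) * (w χ : ℝ) = 0 := by
    have e := hT.sum_block_root_zero h ha ha1 hM hσ hσa
    rw [finsum_mem_eq_toFinset_sum] at e
    simp only [hu, hw, hN] at e
    refine Complex.ofReal_injective ?_
    push_cast
    exact e
  have hsu := Finset.add_sum_erase B (fun χ => (u χ : ℝ) ^ 2) hone
  have hsz := Finset.add_sum_erase B (fun χ => (u χ : ℝ) ^ 2 / (N χ : ℝ) * (w χ : ℝ)) hone
  simp only [hu1, hw1, hN1, sz] at hsu hsz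
  norm_num at hsu hsz
  refine false_of_terms (B.erase one) (fun χ => (u χ : ℝ)) (fun χ => (w χ : ℝ)) (fun χ => (N χ : ℝ))
    (fun χ _ => ?_) (fun χ hχ => ?_) (by linarith) hsz
  · refine Nat.cast_pos.2 (Nat.pos_of_ne_zero fun e => Char.IsIrrCharacter.apply_one_ne_zero χ.2 ?_)
    rw [hN, e, Nat.cast_zero]
  · rcases le_or_gt 0 (w χ) with hw0 | hw0
    · have h1 : (0 : ℝ) ≤ (w χ : ℝ) := Int.cast_nonneg hw0
      have h2 : (0 : ℝ) ≤ (N χ : ℝ) := Nat.cast_nonneg _
      show -(N χ : ℝ) ≤ 320 * (w χ : ℝ)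
      linarith
    obtain ⟨v, hv⟩ := Int.exists_eq_neg_ofNat hw0.le
    obtain ⟨hne, hB⟩ := Finset.mem_erase.1 hχ
    have := hT.degree_bound h ha ha1 hC hM (Set.mem_toFinset.1 hB) (fun e => hne (Subtype.ext e)) hσ hσa
      (N := N χ) (w := v) (hN χ) (hu χ) (by rw [hw, hv]; push_cast; rfl)
    show -(N χ : ℝ) ≤ 320 * (w χ : ℝ)
    rw [hv]
    push_cast
    linarith

/-- Section 3 of the three involution theorem. -/
theorem charsTarget : CharsTarget.{u} := fun _ _ _ _ _ _ hyp hT hC =>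
  haveI := hyp.simple
  hT.false_of_cent hyp.setting hC

end Cfsg.Agent.Goldschmidt.ThreeInv
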