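import Cfsg.Agent.Lib.Goldschmidt.ThreeInv.Chars.Delta

/-!
# Three involutions, section 3: the variance budget (owner: helper84)

* `inDelta_mul` : `t k` is in the set if `k` has a fixed point on `T a` and `C(k) ≤ C(a)`
* `budget`      : the part of `∑ |χ|²` on `T K`, `a O`, `R O` is at most `|C(a)| + χ(1)²`
-/

set_option autoImplicit false

open scoped ComplexConjugate

namespace Cfsg.Agent.Goldschmidt.ThreeInv

open Cfsg Subgroup

universe u

variable {G : Type u} [Group G] [Finite G] {S : Sylow 2 G} {A : Subgroup G} {T : G → Subgroup G} {a : G}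

/-- An element of `T a` times an element with a fixed point on `T a` is in the set. -/
theorem inDelta_mul (hT : TorusData S A T) (hC : TorusCent S A T) (ha : a ∈ A) (ha1 : a ≠ 1)
    {t k : G} (ht : t ∈ T a) (hkN : k ∈ normalizer (T a : Set G))
    (hcop : Nat.Coprime (orderOf k) (Nat.card (T a)))
    (hfix : ∃ t₀ ∈ T a, t₀ ≠ 1 ∧ Commute t₀ k)
    (hk : centralizer ({k} : Set G) ≤ centralizer ({a} : Set G)) : InDelta a (T a) (t * k) := by
  have hab := hT.comm a ha ha1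
  have hTa : ∀ x ∈ T a, ∀ y ∈ T a, x * y = y * x := fun x hx y hy =>
    congrArg Subtype.val (hab.is_comm.comm (⟨x, hx⟩ : T a) ⟨y, hy⟩)
  obtain ⟨t₀, ht₀, ht₀1, hc₀⟩ := hfix
  refine ⟨?_, Or.inr ⟨t₀, ht₀, ht₀1, Commute.mul_right (hTa t₀ ht₀ t ht) hc₀⟩⟩
  have hmem : ∀ s : T a, k * (s : G)⁻¹ * k⁻¹ ∈ T a := fun s =>
    (mem_normalizer_iff.1 hkN _).1 ((T a).inv_mem s.2)
  let φ : T a →* T a := MonoidHom.mk' (fun s => ⟨(s : G) * (k * (s : G)⁻¹ * k⁻¹), mul_mem s.2 (hmem s)⟩)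
    fun s r => Subtype.ext (by
      show (s : G) * r * (k * ((s : G) * r)⁻¹ * k⁻¹) =
        (s : G) * (k * (s : G)⁻¹ * k⁻¹) * ((r : G) * (k * (r : G)⁻¹ * k⁻¹))
      rw [mul_assoc (s : G) (k * (s : G)⁻¹ * k⁻¹), ← mul_assoc (k * (s : G)⁻¹ * k⁻¹),
        ← hTa _ r.2 _ (hmem s), mul_assoc (r : G), ← mul_assoc (s : G),
        show k * (s : G)⁻¹ * k⁻¹ * (k * (r : G)⁻¹ * k⁻¹) = k * ((s : G)⁻¹ * (r : G)⁻¹) * k⁻¹ by group,
        hTa _ s.2 _ r.2, mul_inv_rev, show (r : G) * s = s * r from hTa _ r.2 _ s.2])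
  have hker : ∀ s : T a, s ∈ φ.ker → Commute (s : G) k := fun s hs => by
    have e : (s : G) * (k * (s : G)⁻¹ * k⁻¹) = 1 := congrArg Subtype.val (MonoidHom.mem_ker.1 hs)
    rw [commute_iff_eq]
    have e2 : k * (s : G)⁻¹ * k⁻¹ = (s : G)⁻¹ := eq_inv_of_mul_eq_one_right e
    calc (s : G) * k = (k * (s : G)⁻¹ * k⁻¹)⁻¹ * k := by rw [e2, inv_inv]
      _ = k * s := by group
  have hdis : ∀ s : T a, φ s ∈ φ.ker → φ s = 1 := fun s hs => by
    set v : G := (φ s : G)
    have hv : Commute v k := hker _ hs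
    have hvT : v ∈ T a := (φ s).2
    have hks : k * (s : G) * k⁻¹ = v⁻¹ * s := by
      show _ = ((s : G) * (k * (s : G)⁻¹ * k⁻¹))⁻¹ * s
      group
    have hiter : ∀ i : ℕ, k ^ i * (s : G) * (k ^ i)⁻¹ = (v ^ i)⁻¹ * s := by
      intro i
      induction i with
      | zero => simp
      | succ i ih =>
        rw [pow_succ', show k * k ^ i * (s : G) * (k * k ^ i)⁻¹ = k * (k ^ i * s * (k ^ i)⁻¹) * k⁻¹ by group,
          ih, show k * ((v ^ i)⁻¹ * s) * k⁻¹ = k * (v ^ i)⁻¹ * k⁻¹ * (k * s * k⁻¹) by group, hks,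
          ← (hv.pow_left i).inv_left.eq, mul_inv_cancel_right, ← mul_assoc, ← mul_inv_rev, ← pow_succ']
    have h := hiter (orderOf k)
    rw [pow_orderOf_eq_one, one_mul, inv_one, mul_one, right_eq_mul, inv_eq_one] at h
    refine Subtype.ext (orderOf_eq_one_iff.1 (Nat.eq_one_of_dvd_coprimes hcop ?_ (orderOf_dvd_natCard _ hvT)))
    exact orderOf_dvd_of_pow_eq_one h
  have hsurj : Function.Surjective (fun q : φ.ker × φ.range => (q.1 : T a) * q.2) := by
    refine (Nat.bijective_iff_injective_and_card _).2 ⟨?_, ?_⟩ |>.2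
    · rintro ⟨x, y⟩ ⟨x', y'⟩ (e : (x : T a) * y = x' * y')
      have e' : (x' : T a)⁻¹ * x = (y' : T a) * (y : T a)⁻¹ := by
        rw [eq_mul_inv_iff_mul_eq, mul_assoc, e, inv_mul_cancel_left]
      obtain ⟨s, hs⟩ := φ.range.mul_mem y'.2 (φ.range.inv_mem y.2)
      have h1 : φ s = 1 := hdis s (by rw [hs, ← e']; exact φ.ker.mul_mem (φ.ker.inv_mem x'.2) x.2)
      rw [hs] at h1
      have hy : y' = y := Subtype.ext (mul_inv_eq_one.1 h1)
      subst hy
      exact Prod.ext (Subtype.ext (mul_right_cancel e)) rfl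
    · have h2 := φ.ker.card_mul_index
      rwa [index_ker, ← Nat.card_prod] at h2
  obtain ⟨⟨x, ⟨_, s, rfl⟩⟩, hx⟩ := hsurj ⟨t, ht⟩
  have hx' : (x : G) * ((s : G) * (k * (s : G)⁻¹ * k⁻¹)) = t := congrArg Subtype.val hx
  have hxk : Commute ((x : T a) : G) k := hker _ x.2
  have he : t * k = (s : G) * ((x : G) * k) * (s : G)⁻¹ := by
    rw [← hx', show (s : G) * ((x : G) * k) * (s : G)⁻¹ = (s : G) * x * k * (s : G)⁻¹ by group,
      hTa _ s.2 _ x.1.2]
    group
  have key : centralizer ({(x : G) * k} : Set G) ≤ centralizer ({a} : Set G) := by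
    rcases eq_or_ne ((x : T a) : G) 1 with e | e
    · rwa [e, one_mul]
    have hne : ((x : T a) : G) ^ orderOf k ≠ 1 := fun h => e (orderOf_eq_one_iff.1
      (Nat.eq_one_of_dvd_coprimes hcop (orderOf_dvd_of_pow_eq_one h) (orderOf_dvd_natCard _ x.1.2)))
    refine le_trans (fun g hg => ?_) (hC.cent a ha ha1 _ ((T a).pow_mem x.1.2 _) hne)
    rw [mem_centralizer_singleton_iff] at hg ⊢
    have := (show Commute g ((x : G) * k) from hg).pow_right (orderOf k)
    rwa [hxk.mul_pow, pow_orderOf_eq_one, mul_one] at this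
  intro g hg
  rw [mem_centralizer_singleton_iff, he] at hg
  have hg' : (s : G)⁻¹ * g * s ∈ centralizer ({(x : G) * k} : Set G) := by
    rw [mem_centralizer_singleton_iff]
    calc (s : G)⁻¹ * g * s * ((x : G) * k) = (s : G)⁻¹ * (g * ((s : G) * (x * k) * (s : G)⁻¹)) * s := by group
      _ = (x : G) * k * ((s : G)⁻¹ * g * s) := by rw [hg]; group
  have hsC := hT.le a ha ha1 s.2
  have := mul_mem (mul_mem hsC (key hg')) (inv_mem hsC)
  rwa [show (s : G) * ((s : G)⁻¹ * g * s) * (s : G)⁻¹ = g by group] at this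

/-- The variance budget. -/
theorem budget (hS : Setting S A) (hT : TorusData S A T) (hC : TorusCent S A T) (ha : a ∈ A)
    (ha1 : a ≠ 1) (χ : IrrCharacter G) {O K : Subgroup G} [Fintype (T a)] [Fintype K]
    (hOC : O ≤ centralizer ({a} : Set G))
    (hOn : ∀ g ∈ centralizer ({a} : Set G), ∀ ρ ∈ O, g * ρ * g⁻¹ ∈ O) (hO : Odd (Nat.card O))
    (hTO : T a ≤ O) (hKO : K ≤ O) (hcop : Nat.Coprime (Nat.card K) (Nat.card (T a)))
    (hK : ∀ k ∈ K, k ≠ 1 → (∃ t ∈ T a, t ≠ 1 ∧ Commute t k) ∧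
      centralizer ({k} : Set G) ≤ centralizer ({a} : Set G))
    (R : Finset G) (hR : ∀ s ∈ R, s ∈ (S : Subgroup G) ∧ s * s = a) {u w : ℂ}
    (hu : ∀ ρ ∈ O, (χ : G → ℂ) (a * ρ) = u) (hw : ∀ s ∈ R, ∀ ρ ∈ O, (χ : G → ℂ) (s * ρ) = w) :
    (∑ k : K, ∑ t : T a, Complex.normSq ((χ : G → ℂ) (t * k))) +
      (Nat.card O : ℝ) * (Complex.normSq u + R.card * Complex.normSq w) ≤
    (Nat.card (centralizer ({a} : Set G)) : ℝ) + Complex.normSq ((χ : G → ℂ) 1) := by
  classical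
  have := Fintype.ofFinite G
  have := Fintype.ofFinite O
  set f : G → ℝ := fun x => Complex.normSq ((χ : G → ℂ) x)
  have haa : a * a = 1 := hS.sq ha
  have h2 : ¬ 2 ∣ Nat.card O := fun e => Nat.not_even_iff_odd.2 hO (even_iff_two_dvd.2 e)
  have hSO : ∀ z ∈ (S : Subgroup G), z ∈ O → z = 1 := by
    intro z hz hzO
    obtain ⟨i, hi⟩ := IsPGroup.iff_orderOf.1 S.2 ⟨z, hz⟩
    rw [← orderOf_coe] at hi
    refine orderOf_eq_one_iff.1 ?_
    rcases Nat.eq_zero_or_pos i with rfl | hi0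
    · simpa using hi
    · exact absurd ((hi ▸ dvd_pow_self 2 (by omega)).trans (orderOf_dvd_natCard _ hzO)) h2
  have haO : a ∉ O := fun e => ha1 (hSO a (hS.le ha) e)
  have hsC : ∀ s ∈ R, s ∈ centralizer ({a} : Set G) := fun s hs =>
    mem_centralizer_singleton_iff.2 (hS.commute ha (hR s hs).1).symm
  set D₁ : Finset G := (Finset.univ : Finset (T a × K)).image fun q => (q.1 : G) * (q.2 : G)
  set D₂ : Finset G := (Finset.univ : Finset O).image fun ρ : O => a * (ρ : G)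
  set D₃ : Finset G := (R ×ˢ (Finset.univ : Finset O)).image fun q => q.1 * (q.2 : G)
  have hi₁ : Set.InjOn (fun q : T a × K => (q.1 : G) * (q.2 : G)) ↑(Finset.univ : Finset (T a × K)) := by
    rintro ⟨x, y⟩ - ⟨x', y'⟩ - (e : (x : G) * y = x' * y')
    have e' : (x' : G)⁻¹ * x = (y' : G) * (y : G)⁻¹ := by
      rw [eq_mul_inv_iff_mul_eq, mul_assoc, e, inv_mul_cancel_left]
    have h1 : (x' : G)⁻¹ * x = 1 := orderOf_eq_one_iff.1 (Nat.eq_one_of_dvd_coprimes hcop
      (e'.symm ▸ orderOf_dvd_natCard _ (mul_mem y'.2 (inv_mem y.2)))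
      (orderOf_dvd_natCard _ (mul_mem (inv_mem x'.2) x.2)))
    have hx : x' = x := Subtype.ext (inv_mul_eq_one.1 h1)
    subst hx
    exact Prod.ext rfl (Subtype.ext (mul_left_cancel e))
  have hi₂ : Set.InjOn (fun ρ : O => a * (ρ : G)) ↑(Finset.univ : Finset O) := fun x _ y _ e =>
    Subtype.ext (mul_left_cancel e)
  have hi₃ : Set.InjOn (fun q : G × O => q.1 * (q.2 : G)) ↑(R ×ˢ (Finset.univ : Finset O)) := by
    rintro ⟨s, ρ⟩ hq ⟨s', ρ'⟩ hq' (e : s * (ρ : G) = s' * ρ')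
    simp only [Finset.coe_product, Set.mem_prod, Finset.mem_coe] at hq hq'
    have h1 : s'⁻¹ * s = 1 := hSO _ (mul_mem (inv_mem (hR _ hq'.1).1) (hR _ hq.1).1) (by
      rw [show s'⁻¹ * s = (ρ' : G) * (ρ : G)⁻¹ by
        rw [eq_mul_inv_iff_mul_eq, mul_assoc, e, inv_mul_cancel_left]]
      exact mul_mem ρ'.2 (inv_mem ρ.2))
    have hs : s' = s := inv_mul_eq_one.1 h1
    subst hs
    exact Prod.ext rfl (Subtype.ext (mul_left_cancel e))
  have hm₁ : ∀ x ∈ D₁, x ∈ O := fun x hx => by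
    obtain ⟨q, -, rfl⟩ := Finset.mem_image.1 hx
    exact mul_mem (hTO q.1.2) (hKO q.2.2)
  have hm₂ : ∀ x ∈ D₂, a⁻¹ * x ∈ O := fun x hx => by
    obtain ⟨ρ, -, rfl⟩ := Finset.mem_image.1 hx
    rw [inv_mul_cancel_left]
    exact ρ.2
  have hd₁₂ : Disjoint D₁ D₂ := Finset.disjoint_left.2 fun x h1 h2' => haO (by
    have := mul_mem (hm₁ x h1) (inv_mem (hm₂ x h2'))
    rwa [mul_inv_rev, inv_inv, mul_inv_cancel_left] at this)
  have hd₁₃ : Disjoint (D₁ ∪ D₂) D₃ := Finset.disjoint_left.2 fun x h1 h3 => by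
    obtain ⟨⟨s, ρ⟩, hq, rfl⟩ := Finset.mem_image.1 h3
    obtain ⟨hs, hsa⟩ := hR s (Finset.mem_product.1 hq).1
    rcases Finset.mem_union.1 h1 with h | h
    · have := hSO s hs (by simpa using mul_mem (hm₁ _ h) (inv_mem ρ.2))
      exact ha1 (by rw [← hsa, this, mul_one])
    · have h' := mul_mem (hm₂ _ h) (inv_mem ρ.2)
      rw [← mul_assoc a⁻¹, mul_inv_cancel_right] at h'
      have := hSO _ (mul_mem (inv_mem (hS.le ha)) hs) h'
      rw [inv_mul_eq_one] at this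
      exact ha1 (by rw [← hsa, ← this, haa])
  set D := ((D₁ ∪ D₂) ∪ D₃).erase 1
  have hD : ∀ x ∈ D, InDelta a (T a) x := by
    intro x hx
    obtain ⟨hx1, hx⟩ := Finset.mem_erase.1 hx
    have hpow : ∀ y : G, a⁻¹ * y ∈ O → a ∈ zpowers y := fun y hy => by
      obtain ⟨m, hm⟩ := hO
      have hc : Commute a (a⁻¹ * y) := (mem_centralizer_singleton_iff.1 (hOC hy)).symm
      have e : (a⁻¹ * y) ^ Nat.card O = 1 :=
        orderOf_dvd_iff_pow_eq_one.1 (orderOf_dvd_natCard _ hy)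
      have := hc.mul_pow (Nat.card O)
      have ha' : a ^ (2 * m + 1) = a := by rw [pow_succ, pow_mul, pow_two, haa, one_pow, one_mul]
      rw [mul_inv_cancel_left, e, mul_one, hm, ha'] at this
      exact ⟨((2 * m + 1 : ℕ) : ℤ), (zpow_natCast y _).trans this⟩
    rcases Finset.mem_union.1 hx with h | h
    · rcases Finset.mem_union.1 h with h | h
      · obtain ⟨⟨t, k⟩, -, rfl⟩ := Finset.mem_image.1 h
        rcases eq_or_ne (k : G) 1 with e | e
        · simp only [e, mul_one] at hx1 ⊢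
          exact hC.inDelta_torus ha ha1 t.2 hx1
        · refine inDelta_mul hT hC ha ha1 t.2 (hT.normal a ha ha1 (hOC (hKO k.2))) ?_ (hK _ k.2 e).1
            (hK _ k.2 e).2
          exact hcop.coprime_dvd_left (orderOf_dvd_natCard _ k.2)
      · exact inDelta_of_mem_zpowers _ (hpow x (hm₂ x h))
    · obtain ⟨⟨s, ρ⟩, hq, rfl⟩ := Finset.mem_image.1 h
      have hs := hR s (Finset.mem_product.1 hq).1
      have hss := hsC s (Finset.mem_product.1 hq).1
      have h1 : a⁻¹ * (s * ρ * (s * ρ)) ∈ O := by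
        rw [show a⁻¹ * (s * (ρ : G) * (s * ρ)) = (s * s)⁻¹ * (s * s) * (s⁻¹ * ρ * s) * ρ by
          rw [← hs.2]; group, inv_mul_cancel, one_mul]
        refine mul_mem ?_ ρ.2
        have := hOn s⁻¹ (inv_mem hss) ρ ρ.2
        rwa [inv_inv] at this
      refine inDelta_of_mem_zpowers _ ?_
      exact (zpowers_le.2 (mul_mem (mem_zpowers _) (mem_zpowers _))) (hpow _ h1)
  have hle := sum_normSq_ti_le χ (centralizer ({a} : Set G)) D fun g x hx hgx =>
    hT.ti hS ha ha1 g (hD x hx) (hD _ hgx)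
  have h1D : (1 : G) ∈ (D₁ ∪ D₂) ∪ D₃ := Finset.mem_union_left _ (Finset.mem_union_left _
    (Finset.mem_image.2 ⟨(1, 1), Finset.mem_univ _, by simp⟩))
  have hsum := Finset.add_sum_erase _ f h1D
  rw [Finset.sum_union hd₁₃, Finset.sum_union hd₁₂, Finset.sum_image hi₁, Finset.sum_image hi₂,
    Finset.sum_image hi₃, Finset.sum_product, Fintype.sum_prod_type, Finset.sum_comm] at hsum
  have hA : ∑ ρ : O, f (a * (ρ : G)) = (Nat.card O : ℝ) * Complex.normSq u := by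
    rw [Finset.sum_congr (g := fun _ : O => Complex.normSq u) rfl fun (ρ : O) _ => by
      show Complex.normSq _ = _
      rw [hu ρ ρ.2], Finset.sum_const, Finset.card_univ, nsmul_eq_mul, Nat.card_eq_fintype_card]
  have hB : ∑ s ∈ R, ∑ ρ : O, f (s * (ρ : G)) = (R.card : ℝ) * ((Nat.card O : ℝ) * Complex.normSq w) := by
    have : ∀ s ∈ R, ∑ ρ : O, f (s * (ρ : G)) = (Nat.card O : ℝ) * Complex.normSq w := fun s hs => by
      rw [Finset.sum_congr (g := fun _ : O => Complex.normSq w) rfl fun (ρ : O) _ => by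
        show Complex.normSq _ = _
        rw [hw s hs ρ ρ.2], Finset.sum_const, Finset.card_univ, nsmul_eq_mul, Nat.card_eq_fintype_card]
    rw [Finset.sum_congr rfl this, Finset.sum_const, nsmul_eq_mul]
  simp only [f] at hsum hle hA hB
  linarith

end Cfsg.Agent.Goldschmidt.ThreeInv
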