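import Cfsg.Agent.Lib.Goldschmidt.ThreeInv.Shape
import Cfsg.Agent.Lib.Goldschmidt.ThreeInv.BlockTools
import Cfsg.Agent.Lib.ZStar.SecondPrincipal

/-!
# Three involutions, section 3: constancy of principal characters (owner: helper84)

* `exists_conj_commute`       : an element of `x O` is conjugate to `x c`, `c` in `O` commuting with `x`
* `isConj_mul_of_fixed_free`  : `x` is conjugate to all of `T x` if it is fixed point free on `T`
* `Setting.exists_conj_sylow` : a 2-element of `C(A)` is conjugate in `C(A)` into `S`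
* `Setting.isConj_root`       : all roots of involutions of `A` in `C(A)` are conjugate
* `TorusData.apply_mul_inv`, `TorusData.apply_mul_root` : principal characters are constant on `a O`, `x O`
-/

set_option autoImplicit false
set_option linter.unusedSectionVars false

namespace Cfsg.Agent.Goldschmidt.ThreeInv

open Cfsg Subgroup Blocks SecondMain

universe u

variable {G : Type u} [Group G] [Finite G]

/-- An element of order four normalising an odd subgroup with central square: its coset reduces to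
the part commuting with it. -/
theorem exists_conj_commute {O : Subgroup G} (hO : Odd (Nat.card O)) {x ρ : G}
    (hx : ∀ r ∈ O, x⁻¹ * r * x ∈ O) (h4 : x ^ 4 = 1) (hc : ∀ r ∈ O, Commute (x * x) r) (hρ : ρ ∈ O) :
    ∃ c ∈ O, Commute x c ∧ IsConj (x * c) (x * ρ) := by
  set m := Nat.card O with hm
  obtain ⟨l, hl⟩ := hO
  have hpow : ∀ i : ℕ, ∃ r ∈ O, (x * ρ) ^ i = x ^ i * r := by
    intro i
    induction i with
    | zero => exact ⟨1, O.one_mem, by simp⟩
    | succ i ih =>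
      obtain ⟨r, hr, e⟩ := ih
      exact ⟨x⁻¹ * r * x * ρ, mul_mem (hx r hr) hρ, by rw [pow_succ, e, pow_succ]; group⟩
  have hmm : m * m = 4 * (l * l + l) + 1 := by rw [hl]; ring
  obtain ⟨r₁, hr₁, e₁⟩ := hpow (m * m)
  rw [hmm, pow_succ, pow_succ, pow_mul, pow_mul, h4, one_pow, one_mul] at e₁
  rw [← pow_mul, ← pow_succ, ← hmm] at e₁
  set z := (x * ρ) ^ (m * m)
  obtain ⟨r₂, hr₂, e₂⟩ := hpow 2
  have hr₂m : r₂ ^ m = 1 := orderOf_dvd_iff_pow_eq_one.1 (orderOf_dvd_natCard _ hr₂)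
  have hz2 : z * z = x * x := by
    have h2 : (x * x) ^ 2 = 1 := by rw [← pow_two, ← pow_mul, h4]
    have e : (x * x) ^ (m * m) = x * x := by
      rw [hmm, show 4 * (l * l + l) = 2 * (2 * (l * l + l)) by ring, pow_succ, pow_mul, h2, one_pow, one_mul]
    calc z * z = ((x * ρ) ^ 2) ^ (m * m) := by
          rw [← pow_add, ← two_mul, pow_mul]
      _ = x * x := by
          rw [e₂, pow_two, (hc r₂ hr₂).mul_pow, e, pow_mul, hr₂m, one_pow, mul_one]
  have hinv : x⁻¹ * r₁ * x = r₁⁻¹ := by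
    rw [e₁] at hz2
    have h1 : r₁ * (x * r₁) = x := mul_left_cancel (a := x) (by rw [← hz2]; group)
    calc x⁻¹ * r₁ * x = x⁻¹ * (r₁ * (x * r₁)) * r₁⁻¹ := by group
      _ = r₁⁻¹ := by rw [h1]; group
  have hr₁m : r₁ ^ (2 * l + 1) = 1 :=
    hl ▸ orderOf_dvd_iff_pow_eq_one.1 (orderOf_dvd_natCard _ hr₁)
  set r := r₁ ^ l
  have hzr : z = r * x * r⁻¹ := by
    have hrx : x⁻¹ * r * x = r⁻¹ := by
      have := conj_pow (a := x⁻¹) (b := r₁) (i := l)
      rw [inv_inv, hinv, inv_pow] at this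
      exact this.symm
    have hsq : r⁻¹ * r⁻¹ = r₁ := by
      rw [← mul_inv_rev, ← pow_add, inv_eq_iff_mul_eq_one, ← pow_succ, ← two_mul, hr₁m]
    calc z = x * (r⁻¹ * r⁻¹) := by rw [e₁, hsq]
      _ = x * (x⁻¹ * r * x * r⁻¹) := by rw [hrx]
      _ = r * x * r⁻¹ := by group
  have hr : r ∈ O := O.pow_mem hr₁ l
  have hcm : Commute z (x * ρ) := (Commute.refl (x * ρ)).pow_left _
  refine ⟨x⁻¹ * (r⁻¹ * (x * ρ) * r), ?_, ?_, isConj_iff.2 ⟨r, by group⟩⟩
  · rw [show x⁻¹ * (r⁻¹ * (x * ρ) * r) = x⁻¹ * r⁻¹ * x * ρ * r by group]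
    exact mul_mem (mul_mem (hx _ (inv_mem hr)) hρ) hr
  · have e : Commute x (r⁻¹ * (x * ρ) * r) := by
      rw [hzr] at hcm
      calc x * (r⁻¹ * (x * ρ) * r) = r⁻¹ * ((r * x * r⁻¹) * (x * ρ)) * r := by group
        _ = r⁻¹ * ((x * ρ) * (r * x * r⁻¹)) * r := by rw [hcm.eq]
        _ = r⁻¹ * (x * ρ) * r * x := by group
    exact ((Commute.refl x).inv_right.mul_right e)

/-- An element without fixed points on `T` is conjugate to every element of `T x`. -/
theorem isConj_mul_of_fixed_free {T : Subgroup G} {x : G}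
    (hn : ∀ s ∈ T, x * s * x⁻¹ ∈ T) (hfree : ∀ s ∈ T, Commute s x → s = 1) {t : G} (ht : t ∈ T) :
    IsConj x (t * x) := by
  let f : T → T := fun s => ⟨(s : G) * (x * (s : G)⁻¹ * x⁻¹), mul_mem s.2 (hn _ (inv_mem s.2))⟩
  have hf : Function.Injective f := by
    intro s r e
    have e' : (s : G) * (x * (s : G)⁻¹ * x⁻¹) = r * (x * (r : G)⁻¹ * x⁻¹) := congrArg Subtype.val e
    refine Subtype.ext (inv_mul_eq_one.1 (hfree _ (mul_mem (inv_mem s.2) r.2) ?_))
    have h1 : (s : G)⁻¹ * r = x * (s : G)⁻¹ * x⁻¹ * (x * (r : G)⁻¹ * x⁻¹)⁻¹ := by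
      rw [eq_mul_inv_iff_mul_eq, mul_assoc, ← e']; group
    calc (s : G)⁻¹ * r * x = x * (s : G)⁻¹ * x⁻¹ * (x * (r : G)⁻¹ * x⁻¹)⁻¹ * x := by rw [← h1]
      _ = x * ((s : G)⁻¹ * r) := by group
  obtain ⟨s, hs⟩ := (Finite.injective_iff_surjective.1 hf) ⟨t, ht⟩
  have e : (s : G) * (x * (s : G)⁻¹ * x⁻¹) = t := congrArg Subtype.val hs
  exact isConj_iff.2 ⟨s, by rw [← e]; group⟩

variable {S : Sylow 2 G} {A : Subgroup G}

namespace Setting

variable (h : Setting S A)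

include h

/-- A 2-element of `C(A)` is conjugate in `C(A)` into `S`. -/
theorem exists_conj_sylow {x : G} (hx : x ∈ centralizer (A : Set G)) {i : ℕ} (hi : x ^ 2 ^ i = 1) :
    ∃ g ∈ centralizer (A : Set G), g * x * g⁻¹ ∈ (S : Subgroup G) := by
  have := Fact.mk Nat.prime_two
  set C := centralizer (A : Set G)
  have hp : IsPGroup 2 ↥(zpowers (⟨x, hx⟩ : C)) := by
    obtain ⟨k, -, hk⟩ := (Nat.dvd_prime_pow Nat.prime_two).1 (orderOf_dvd_of_pow_eq_one hi)
    exact IsPGroup.of_card (n := k) (by rw [Nat.card_zpowers, Subgroup.orderOf_mk, hk])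
  obtain ⟨Q, hQ⟩ := hp.exists_le_sylow
  obtain ⟨g, hg⟩ := MulAction.exists_smul_eq C Q (S.subtype h.central)
  refine ⟨g, g.2, ?_⟩
  have : g • (⟨x, hx⟩ : C) * g⁻¹ ∈ (S.subtype h.central : Subgroup C) := by
    rw [← hg]
    exact ⟨_, hQ (mem_zpowers _), rfl⟩
  exact this

variable [IsSimpleGroup G]

/-- All elements of `C(A)` with square in `A#` are conjugate in `G`. -/
theorem isConj_root {T : G → Subgroup G} (hT : TorusData S A T) {a : G} (ha : a ∈ A) (ha1 : a ≠ 1)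
    {σ : G} (hσ : σ ∈ (S : Subgroup G)) (hσa : σ * σ = a) {x : G} (hx : x ∈ centralizer (A : Set G))
    (hxA : x * x ∈ A) (hx1 : x * x ≠ 1) : IsConj σ x := by
  obtain ⟨g, hg, hgS⟩ := h.exists_conj_sylow hx (i := 2)
    (by rw [show (2 : ℕ) ^ 2 = 2 + 2 from rfl, pow_add, pow_two, h.sq hxA])
  obtain ⟨f, hfS, hf⟩ := h.fused hxA hx1 ha ha1
  have hy : f * (g * x * g⁻¹) * f⁻¹ * (f * (g * x * g⁻¹) * f⁻¹) = a := by
    rw [show f * (g * x * g⁻¹) * f⁻¹ * (f * (g * x * g⁻¹) * f⁻¹) = f * (g * (x * x) * g⁻¹) * f⁻¹ by group,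
      ← mem_centralizer_iff.1 hg _ hxA, mul_inv_cancel_right, hf]
  obtain ⟨c, -, -, hc⟩ := hT.roots_trans h ha ha1 hσ (hfS _ hgS) hσa hy
  exact (isConj_iff.2 ⟨c, hc⟩).trans ((isConj_iff.2 ⟨f * g, by group⟩).symm)

end Setting

namespace TorusData

variable {T : G → Subgroup G} (hT : TorusData S A T) (h : Setting S A) {a : G} (ha : a ∈ A) (ha1 : a ≠ 1)
  {M : Ideal AlgInt}

include hT h ha ha1

theorem sup_le_centralizer : T a ⊔ coreA A ≤ centralizer ({a} : Set G) :=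
  sup_le (hT.le a ha ha1) ((coreA_le A).trans (hT.centralizer_A_le h ha ha1))

theorem commute_sup {ρ : G} (hρ : ρ ∈ T a ⊔ coreA A) : Commute a ρ :=
  (mem_centralizer_singleton_iff.1 (sup_le_centralizer hT h ha ha1 hρ)).symm

/-- Principal characters are constant on `a O(C(a))`. -/
theorem apply_mul_inv (hM : IsPModular 2 M) {χ : IrrCharacter G} (hχ : χ ∈ principalBlock M G) {ρ : G}
    (hρ : ρ ∈ T a ⊔ coreA A) : (χ : G → ℂ) (a * ρ) = (χ : G → ℂ) a := by
  have := Fact.mk Nat.prime_two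
  refine ZStar.apply_mul_eq hM ⟨1, ?_⟩ _ (fun e => ?_)
    (fun o ho => (commute_sup hT h ha ha1 ho).symm)
    (fun c hc o ho => hT.conj_mem_sup h ha ha1 (mem_centralizer_singleton_iff.2 hc.eq) ho) hρ hχ
  · rw [pow_one]; exact orderOf_eq_prime (by rw [pow_two, h.sq ha]) ha1
  · exact Nat.not_even_iff_odd.2 (hT.odd_sup h ha ha1) (even_iff_two_dvd.2 e)

/-- Principal characters are constant on `x O(C(a))` for a root `x` of `a`. -/
theorem apply_mul_root (hM : IsPModular 2 M) {χ : IrrCharacter G} (hχ : χ ∈ principalBlock M G) {x ρ : G}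
    (hxa : x * x = a) (hρ : ρ ∈ T a ⊔ coreA A) : (χ : G → ℂ) (x * ρ) = (χ : G → ℂ) x := by
  have := Fact.mk Nat.prime_two
  set O := T a ⊔ coreA A
  have hxC : x ∈ centralizer ({a} : Set G) := mem_centralizer_singleton_iff.2 (by rw [← hxa, mul_assoc])
  have hn : ∀ r ∈ O, x⁻¹ * r * x ∈ O := fun r hr => by
    simpa using hT.conj_mem_sup h ha ha1 (inv_mem hxC) hr
  have h4 : x ^ 4 = 1 := by
    rw [show x ^ 4 = (x * x) * (x * x) by simp [pow_succ, mul_assoc], hxa, h.sq ha]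
  obtain ⟨c, hc, hxc, e⟩ := exists_conj_commute (hT.odd_sup h ha ha1) hn h4
    (fun r hr => hxa ▸ commute_sup hT h ha ha1 hr) hρ
  obtain ⟨g, hg⟩ := isConj_iff.1 e
  rw [← hg, Char.IsIrrCharacter.isClassFunction χ.2]
  refine ZStar.apply_mul_eq hM ?_ (O ⊓ centralizer ({x} : Set G))
    (fun e => Nat.not_even_iff_odd.2 (hT.odd_sup h ha ha1)
      (even_iff_two_dvd.2 (e.trans (card_dvd_of_le inf_le_left))))
    (fun o ho => mem_centralizer_singleton_iff.1 ho.2) (fun d hd o ho => ⟨?_, ?_⟩)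
    ⟨hc, mem_centralizer_singleton_iff.2 hxc.symm.eq⟩ hχ
  · obtain ⟨k, -, hk⟩ := (Nat.dvd_prime_pow Nat.prime_two).1
      (orderOf_dvd_of_pow_eq_one (show x ^ 2 ^ 2 = 1 from h4))
    exact ⟨k, hk⟩
  · refine hT.conj_mem_sup h ha ha1 (mem_centralizer_singleton_iff.2 ?_) ho.1
    rw [← hxa]; exact (hd.mul_right hd).eq
  · refine mem_centralizer_singleton_iff.2 ?_
    exact ((Commute.mul_left hd (mem_centralizer_singleton_iff.1 ho.2)).mul_left hd.inv_left).eq

end TorusData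

end Cfsg.Agent.Goldschmidt.ThreeInv
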