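import Cfsg.Agent.Lib.Goldschmidt.ThreeInv.Chars.Weights
import Cfsg.Agent.Lib.Goldschmidt.ThreeInv.SylowFacts
import Cfsg.Agent.Lib.Goldschmidt.ThreeInv.Targets

/-!
# Three involutions, section 3: the trivial intersection set (owner: helper84)

* `sum_normSq_ti_le` : a trivial intersection set with normaliser `H` carries at most `|H|` of `∑ |χ|²`
* `InDelta`, `inDelta_of_mem_zpowers`, `inDelta_torus` : the set and members
* `TorusData.eq_of_commute` : a conjugate of `a` in `C(a)` centralising part of `T a` is `a`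
* `TorusData.ti` : the set is TI with normaliser `C(a)`
-/

set_option autoImplicit false

open scoped ComplexConjugate

namespace Cfsg.Agent.Goldschmidt.ThreeInv

open Cfsg Subgroup

universe u

variable {G : Type u} [Group G]

/-- A trivial intersection set with normaliser `H` carries at most `|H|` of the norm of `χ`. -/
theorem sum_normSq_ti_le [Fintype G] (χ : IrrCharacter G) (H : Subgroup G) (D : Finset G)
    (hti : ∀ g : G, ∀ x ∈ D, g * x * g⁻¹ ∈ D → g ∈ H) :
    ∑ x ∈ D, Complex.normSq ((χ : G → ℂ) x) ≤ (Nat.card H : ℝ) := by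
  classical
  set f : G → ℝ := fun x => Complex.normSq ((χ : G → ℂ) x)
  have hf : ∀ g x : G, f (g * x * g⁻¹) = f x := fun g x => by
    simp only [f, Char.IsIrrCharacter.isClassFunction χ.2 x g]
  have hsum : ∑ y, f y = (Nat.card G : ℝ) := by
    have e := Char.card_mul_classInner (χ : G → ℂ) (χ : G → ℂ)
    rw [Char.classInner_irr_self χ.2, mul_one] at e
    refine Complex.ofReal_injective ?_
    push_cast
    rw [e]
    exact Finset.sum_congr rfl fun x _ => by simp [f, Complex.normSq_eq_conj_mul_self, mul_comm]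
  have key : ∑ p ∈ (Finset.univ : Finset G) ×ˢ D, f (p.1 * p.2 * p.1⁻¹) ≤ (Nat.card H : ℝ) * Nat.card G := by
    rw [← Finset.sum_fiberwise_of_maps_to (t := Finset.univ) (g := fun p : G × G => p.1 * p.2 * p.1⁻¹)
      fun p _ => Finset.mem_univ _, ← hsum, Finset.mul_sum]
    refine Finset.sum_le_sum fun y _ => ?_
    rw [Finset.sum_congr rfl fun p hp => by rw [(Finset.mem_filter.1 hp).2], Finset.sum_const,
      nsmul_eq_mul]
    refine mul_le_mul_of_nonneg_right ?_ (Complex.normSq_nonneg _)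
    refine Nat.cast_le.2 ?_
    set Y := ((Finset.univ : Finset G) ×ˢ D).filter fun p : G × G => p.1 * p.2 * p.1⁻¹ = y
    rcases Y.eq_empty_or_nonempty with e | ⟨⟨g₀, x₀⟩, h₀⟩
    · simp [e]
    simp only [Y, Finset.mem_filter, Finset.mem_product, Finset.mem_univ, true_and] at h₀
    rw [Nat.card_eq_fintype_card, ← Finset.card_univ]
    refine Finset.card_le_card_of_surjOn (fun h : H => (g₀ * h, (h : G)⁻¹ * x₀ * h)) fun p hp => ?_
    simp only [Y, Finset.mem_coe, Finset.mem_filter, Finset.mem_product, Finset.mem_univ, true_and] at hp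
    have hh : g₀⁻¹ * p.1 ∈ H := hti _ p.2 hp.1 (by
      rw [show g₀⁻¹ * p.1 * p.2 * (g₀⁻¹ * p.1)⁻¹ = g₀⁻¹ * (p.1 * p.2 * p.1⁻¹) * g₀ by group, hp.2,
        ← h₀.2, show g₀⁻¹ * (g₀ * x₀ * g₀⁻¹) * g₀ = x₀ by group]
      exact h₀.1)
    refine ⟨⟨_, hh⟩, by simp, Prod.ext (by simp) ?_⟩
    show (g₀⁻¹ * p.1)⁻¹ * x₀ * (g₀⁻¹ * p.1) = p.2
    rw [show (g₀⁻¹ * p.1)⁻¹ * x₀ * (g₀⁻¹ * p.1) = p.1⁻¹ * (g₀ * x₀ * g₀⁻¹) * p.1 by group, h₀.2, ← hp.2]
    group
  rw [Finset.sum_product, Finset.sum_congr rfl fun g _ => Finset.sum_congr rfl fun x _ => hf g x,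
    Finset.sum_const, Finset.card_univ, nsmul_eq_mul, ← Nat.card_eq_fintype_card, mul_comm] at key
  exact le_of_mul_le_mul_right key (by exact_mod_cast Nat.card_pos)

/-- The trivial intersection set of `a`. -/
def InDelta (a : G) (T : Subgroup G) (x : G) : Prop :=
  centralizer ({x} : Set G) ≤ centralizer ({a} : Set G) ∧
    (a ∈ zpowers x ∨ ∃ t ∈ T, t ≠ 1 ∧ Commute t x)

/-- Any element with `a` among its powers is in the set. -/
theorem inDelta_of_mem_zpowers {a : G} (T : Subgroup G) {x : G} (h : a ∈ zpowers x) : InDelta a T x := by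
  refine ⟨fun g hg => ?_, Or.inl h⟩
  obtain ⟨i, rfl⟩ := mem_zpowers_iff.1 h
  rw [mem_centralizer_singleton_iff] at hg ⊢
  exact (Commute.zpow_right hg i).eq

variable [Finite G] {S : Sylow 2 G} {A : Subgroup G} {T : G → Subgroup G} {a : G}

/-- A conjugate of `a` in `C(a)` centralising a non-trivial element of `T a` is `a`. -/
theorem TorusData.eq_of_commute (hS : Setting S A) (hT : TorusData S A T) (ha : a ∈ A) (ha1 : a ≠ 1)
    {g : G} (hgC : g * a * g⁻¹ ∈ centralizer ({a} : Set G)) {t : G} (ht : t ∈ T a) (ht1 : t ≠ 1)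
    (hc : Commute (g * a * g⁻¹) t) : g * a * g⁻¹ = a := by
  have := Fact.mk Nat.prime_two
  set C := centralizer ({a} : Set G)
  have haa : a * a = 1 := hS.sq ha
  have hSC : (S : Subgroup G) ≤ C := fun s hs =>
    mem_centralizer_singleton_iff.2 (hS.commute ha hs).symm
  set x : C := ⟨_, hgC⟩
  have hxx : g * a * g⁻¹ * (g * a * g⁻¹) = 1 := by
    rw [show g * a * g⁻¹ * (g * a * g⁻¹) = g * (a * a) * g⁻¹ by group, haa]; group
  have hP : IsPGroup 2 (zpowers x) := by
    refine IsPGroup.of_card (n := 1) ?_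
    rw [Nat.card_zpowers, pow_one]
    refine orderOf_eq_prime (by rw [pow_two]; exact Subtype.ext hxx) fun e => ha1 ?_
    calc a = g⁻¹ * ((x : C) : G) * g := by simp only [x]; group
      _ = 1 := by rw [e, coe_one]; group
  obtain ⟨Q, hQ⟩ := hP.exists_le_sylow
  obtain ⟨h, rfl⟩ := MulAction.exists_smul_eq C (S.subtype hSC) Q
  have hm : ((h⁻¹ * x * h : C) : G) ∈ (S : Subgroup G) := by
    have e := hQ (mem_zpowers x)
    rw [Sylow.coe_subgroup_smul, mem_pointwise_smul_iff_inv_smul_mem, ← map_inv,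
      MulAut.smul_def, MulAut.conj_apply, inv_inv, Sylow.coe_subtype, mem_subgroupOf] at e
    exact e
  set z : G := ((h⁻¹ * x * h : C) : G) with hz
  have hzh : z = (h : G)⁻¹ * (g * a * g⁻¹) * (h : G) := by simp [hz, x]
  have hzA : z ∈ A := (hS.mem z hm).1 (by
    rw [hzh, show (h : G)⁻¹ * (g * a * g⁻¹) * h * ((h : G)⁻¹ * (g * a * g⁻¹) * h) =
      (h : G)⁻¹ * (g * a * g⁻¹ * (g * a * g⁻¹)) * h by group, hxx]
    group)
  have hz1 : z ≠ 1 := fun e => ha1 (by
    have := hzh ▸ e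
    calc a = g⁻¹ * ((h : G) * ((h : G)⁻¹ * (g * a * g⁻¹) * h) * (h : G)⁻¹) * g := by group
      _ = 1 := by rw [this]; group)
  have hha : (h : G) * a * (h : G)⁻¹ = a := by
    rw [mem_centralizer_singleton_iff.1 h.2, mul_inv_cancel_right]
  by_cases hza : z = a
  · calc g * a * g⁻¹ = (h : G) * z * (h : G)⁻¹ := by rw [hzh]; group
      _ = a := by rw [hza, hha]
  exfalso
  have htm : (h : G)⁻¹ * t * h ∈ T a :=
    (mem_normalizer_iff''.1 (hT.normal a ha ha1 h.2) t).1 ht
  have hinv := hT.inverts a ha ha1 z hzA hz1 hza _ htm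
  rw [hzh, show (h : G)⁻¹ * (g * a * g⁻¹) * h * ((h : G)⁻¹ * t * h) * ((h : G)⁻¹ * (g * a * g⁻¹) * h)⁻¹ =
    (h : G)⁻¹ * ((g * a * g⁻¹) * t * (g * a * g⁻¹)⁻¹) * h by group, hc.eq, mul_inv_cancel_right,
    show ((h : G)⁻¹ * t * h)⁻¹ = (h : G)⁻¹ * t⁻¹ * h by group, mul_left_inj, mul_right_inj] at hinv
  refine ht1 (orderOf_eq_one_iff.1 (Nat.eq_one_of_dvd_coprimes
    ((hT.odd a ha ha1).coprime_two_left) (orderOf_dvd_iff_pow_eq_one.2 ?_) (orderOf_dvd_natCard _ ht)))
  rw [pow_two]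
  nth_rw 2 [hinv]
  exact mul_inv_cancel t

/-- The set is a trivial intersection set with normaliser `C(a)`. -/
theorem TorusData.ti (hS : Setting S A) (hT : TorusData S A T) (ha : a ∈ A) (ha1 : a ≠ 1) (g : G)
    {x : G} (hx : InDelta a (T a) x) (hgx : InDelta a (T a) (g * x * g⁻¹)) :
    g ∈ centralizer ({a} : Set G) := by
  suffices h : g⁻¹ * a * g = a by
    rw [mem_centralizer_singleton_iff]
    conv_lhs => rw [← h]
    group
  set a' := g⁻¹ * a * g with ha'
  have hxa : Commute a x := ((mem_centralizer_singleton_iff.1 (hx.1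
    (mem_centralizer_singleton_iff.2 rfl)))).symm
  have hxa' : Commute a' x := by
    have h1 := mem_centralizer_singleton_iff.1 (hgx.1 (mem_centralizer_singleton_iff.2 rfl))
    calc a' * x = g⁻¹ * (a * (g * x * g⁻¹)) * g := by rw [ha']; group
      _ = g⁻¹ * (g * x * g⁻¹ * a) * g := by rw [h1]
      _ = x * a' := by rw [ha']; group
  have ha'C : a' ∈ centralizer ({a} : Set G) := hx.1 (mem_centralizer_singleton_iff.2 hxa'.eq)
  have hconj : g⁻¹ * a * (g⁻¹)⁻¹ = a' := by rw [inv_inv]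
  have hgC : g * a * g⁻¹ ∈ centralizer ({a} : Set G) := by
    refine hgx.1 (mem_centralizer_singleton_iff.2 ?_)
    calc g * a * g⁻¹ * (g * x * g⁻¹) = g * (a * x) * g⁻¹ := by group
      _ = g * x * g⁻¹ * (g * a * g⁻¹) := by rw [hxa.eq]; group
  rcases hx.2 with h1 | ⟨t, ht, ht1, htx⟩
  swap
  · -- `a'` centralises `t`
    have htC : g * t * g⁻¹ ∈ centralizer ({g * x * g⁻¹} : Set G) := by
      rw [mem_centralizer_singleton_iff]
      calc g * t * g⁻¹ * (g * x * g⁻¹) = g * (t * x) * g⁻¹ := by group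
        _ = g * x * g⁻¹ * (g * t * g⁻¹) := by rw [htx.eq]; group
    have h2 := mem_centralizer_singleton_iff.1 (hgx.1 htC)
    have := hT.eq_of_commute hS ha ha1 (g := g⁻¹) (by rwa [hconj]) ht ht1 (by
      rw [hconj, commute_iff_eq]
      calc a' * t = g⁻¹ * (a * (g * t * g⁻¹)) * g := by rw [ha']; group
        _ = g⁻¹ * (g * t * g⁻¹ * a) * g := by rw [h2]
        _ = t * a' := by rw [ha']; group)
    rwa [hconj] at this
  rcases hgx.2 with h2 | ⟨t, ht, ht1, htx⟩
  swap
  · -- `a^g` centralises `t`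
    have hc : t ∈ centralizer ({g * x * g⁻¹} : Set G) := mem_centralizer_singleton_iff.2 htx.eq
    have h3 : g⁻¹ * t * g ∈ centralizer ({x} : Set G) := by
      rw [mem_centralizer_singleton_iff]
      calc g⁻¹ * t * g * x = g⁻¹ * (t * (g * x * g⁻¹)) * g := by group
        _ = x * (g⁻¹ * t * g) := by rw [htx.eq]; group
    have h4 := mem_centralizer_singleton_iff.1 (hx.1 h3)
    have := hT.eq_of_commute hS ha ha1 (g := g) hgC ht ht1 (by
      rw [commute_iff_eq]
      calc g * a * g⁻¹ * t = g * (a * (g⁻¹ * t * g)) * g⁻¹ := by group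
        _ = g * (g⁻¹ * t * g * a) * g⁻¹ := by rw [h4]
        _ = t * (g * a * g⁻¹) := by group)
    calc a' = g⁻¹ * (g * a * g⁻¹) * g := by rw [this]
      _ = a := by group
  -- both are powers of `x`
  have h5 : a' ∈ zpowers x := by
    obtain ⟨i, hi⟩ := mem_zpowers_iff.1 h2
    refine mem_zpowers_iff.2 ⟨i, ?_⟩
    rw [ha', ← hi, conj_zpow]
    group
  have ho : ∀ y : G, y ∈ zpowers x → y * y = 1 → y ≠ 1 → y = x ^ (orderOf x / 2) := by
    intro y hy hyy hy1
    classical
    obtain ⟨i, hi, rfl⟩ := Finset.mem_image.1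
      ((isOfFinOrder_of_finite x).mem_zpowers_iff_mem_range_orderOf.mp hy)
    rw [Finset.mem_range] at hi
    have hd : orderOf x ∣ 2 * i := orderOf_dvd_of_pow_eq_one (by rw [two_mul, pow_add]; exact hyy)
    have hi0 : i ≠ 0 := fun e => hy1 (by rw [e, pow_zero])
    obtain ⟨k, hk⟩ := hd
    have : k = 1 := by
      rcases k with _ | _ | k
      · omega
      · rfl
      · exfalso; rw [Nat.mul_comm] at hk; nlinarith
    subst this
    congr 1; omega
  have haa : a * a = 1 := hS.sq ha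
  have ha'1 : a' * a' = 1 := by rw [ha', show g⁻¹ * a * g * (g⁻¹ * a * g) = g⁻¹ * (a * a) * g by group, haa]; group
  have ha'ne : a' ≠ 1 := fun e => ha1 (by
    calc a = g * a' * g⁻¹ := by rw [ha']; group
      _ = 1 := by rw [e]; group)
  rw [ho a' h5 ha'1 ha'ne, ho a h1 haa ha1]

omit [Finite G] in
/-- The elements of `(T a)#` are in the set. -/
theorem TorusCent.inDelta_torus (hC : TorusCent S A T) (ha : a ∈ A) (ha1 : a ≠ 1) {t : G}
    (ht : t ∈ T a) (ht1 : t ≠ 1) : InDelta a (T a) t :=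
  ⟨hC.cent a ha ha1 t ht ht1, Or.inr ⟨t, ht, ht1, Commute.refl t⟩⟩

end Cfsg.Agent.Goldschmidt.ThreeInv
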