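import Cfsg.Agent.Lib.Goldschmidt.ThreeInv.Chars.Constancy

/-!
# Three involutions, section 3: the block equation (owner: helper84)

* `TorusData.card_sup`            : `|O(C(a))| = |T a| |O(C(A))|`
* `TorusData.sum_block_root_zero` : pairs of conjugates of `a` give no contribution at a root of `a`
* `TorusData.sum_normSq_apply_le` : the squares of values constant on `a O(C(a))` sum to at most 320
-/

set_option autoImplicit false
set_option linter.unusedSectionVars false

open scoped ComplexConjugate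

namespace Cfsg.Agent.Goldschmidt.ThreeInv

open Cfsg Subgroup Blocks SecondMain

universe u

variable {G : Type u} [Group G] [Finite G] {S : Sylow 2 G} {A : Subgroup G}

namespace TorusData

variable {T : G → Subgroup G} (hT : TorusData S A T) (h : Setting S A) {a : G} (ha : a ∈ A) (ha1 : a ≠ 1)
  {M : Ideal AlgInt}

include hT h ha ha1

theorem card_sup : Nat.card ↥(T a ⊔ coreA A) = Nat.card ↥(T a) * Nat.card ↥(coreA A) := by
  have hle : coreA A ≤ normalizer (T a : Set G) :=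
    ((coreA_le A).trans (hT.centralizer_A_le h ha ha1)).trans (hT.normal a ha ha1)
  have hi : T a ⊓ coreA A = ⊥ := le_bot_iff.1 ((inf_le_inf_left _ (coreA_le A)).trans
    (hT.inf_eq_bot h ha ha1).le)
  have h1 := Coprime.card_mul_inf (T a) (coreA A)
  rw [← Subgroup.coe_mul_of_right_le_normalizer_left (T a) (coreA A) hle, hi, card_bot, mul_one] at h1
  exact h1

variable [IsSimpleGroup G]

theorem sum_block_root_zero (hM : IsPModular 2 M) {σ : G} (hσ : σ ∈ (S : Subgroup G))
    (hσa : σ * σ = a) :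
    ∑ᶠ χ ∈ principalBlock M G, (χ : G → ℂ) a ^ 2 / (χ : G → ℂ) 1 * (χ : G → ℂ) σ = 0 := by
  have := Fact.mk Nat.prime_two
  have haa : a * a = 1 := h.sq ha
  have h4 : σ ^ 4 = 1 := by
    rw [show σ ^ 4 = (σ * σ) * (σ * σ) by simp [pow_succ, mul_assoc], hσa, haa]
  refine sum_block_sq_div_eq_zero hM BrauerPairs.isPBlock_principal ?_ fun c hc ho g k hg hk hgk => ?_
  · obtain ⟨i, -, hi⟩ := (Nat.dvd_prime_pow Nat.prime_two).1
      (orderOf_dvd_of_pow_eq_one (show σ ^ 2 ^ 2 = 1 from h4))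
    exact ⟨i, hi⟩
  have hinv : ∀ {x : G}, IsConj a x → x * x = 1 := fun {x} hx => by
    obtain ⟨d, rfl⟩ := isConj_iff.1 hx
    rw [show d * a * d⁻¹ * (d * a * d⁻¹) = d * (a * a) * d⁻¹ by group, haa]
    group
  have hgi : g⁻¹ = g := inv_eq_of_mul_eq_one_right (hinv hg)
  have hki : k⁻¹ = k := inv_eq_of_mul_eq_one_right (hinv hk)
  have hx : g * (σ * c) * g⁻¹ = (σ * c)⁻¹ := by
    rw [show σ * c = (g * k)⁻¹ by rw [hgk, inv_inv], inv_inv, mul_inv_rev, hki, hgi]
    calc g * (k * g) * g = g * k * (g * g) := by group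
      _ = g * k := by rw [hinv hg, mul_one]
  obtain ⟨m, hm⟩ := Nat.not_even_iff_odd.1 fun e => ho (even_iff_two_dvd.1 e)
  -- `g` inverts the 2-part `σ`
  have hn : g * σ ^ orderOf c * g⁻¹ = (σ ^ orderOf c)⁻¹ := by
    have := congrArg (· ^ orderOf c) hx
    simpa only [conj_pow, inv_pow, hc.mul_pow, pow_orderOf_eq_one, mul_one] using this
  have hgs : g * σ * g⁻¹ = σ⁻¹ := by
    have := congrArg (· ^ (2 * m + 1)) hn
    simp only [conj_pow, inv_pow, ← pow_mul, hm] at this
    rw [show (2 * m + 1) * (2 * m + 1) = 4 * (m * m + m) + 1 by ring, pow_succ, pow_mul, h4,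
      one_pow, one_mul] at this
    exact this
  have hga : g ∈ centralizer ({a} : Set G) := by
    refine mem_centralizer_singleton_iff.2 (mul_inv_eq_iff_eq_mul.1 ?_)
    rw [← hσa, show g * (σ * σ) * g⁻¹ = g * σ * g⁻¹ * (g * σ * g⁻¹) by group, hgs, ← mul_inv_rev, hσa]
    exact inv_eq_of_mul_eq_one_right haa
  obtain ⟨t, ht, d, hd, rfl⟩ := hT.exists_mul h ha ha1 hga
  have hNT : centralizer ({a} : Set G) ≤ normalizer (T a : Set G) := hT.normal a ha ha1
  have hdT : d * t * d⁻¹ ∈ T a :=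
    (mem_normalizer_iff.1 (hNT (hT.centralizer_A_le h ha ha1 hd)) t).1 ht
  have hdd : d * d = 1 := by
    have h1 : d * d ∈ T a ⊓ centralizer (A : Set G) := Subgroup.mem_inf.2 ⟨by
      rw [show d * d = (t * (d * t * d⁻¹))⁻¹ * (t * d * (t * d)) by group, hinv hg, mul_one]
      exact inv_mem (mul_mem ht hdT), mul_mem hd hd⟩
    rwa [hT.inf_eq_bot h ha ha1, mem_bot] at h1
  have hdA : d ∈ A := by
    obtain ⟨e, he, heS⟩ := h.exists_conj_sylow hd (i := 1) (by rw [pow_one, pow_two, hdd])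
    have h1 : e * d * e⁻¹ ∈ A := (h.mem _ heS).1 (by
      rw [show e * d * e⁻¹ * (e * d * e⁻¹) = e * (d * d) * e⁻¹ by group, hdd]; group)
    have h2 := mem_centralizer_iff.1 he _ h1
    rwa [show d = e⁻¹ * (e * d * e⁻¹ * e) by group, h2, inv_mul_cancel_left]
  have hts : t * σ * t⁻¹ = σ⁻¹ := by
    rw [← hgs, show t * d * σ * (t * d)⁻¹ = t * (d * σ) * d⁻¹ * t⁻¹ by group, h.commute hdA hσ]
    group
  have hσC : σ ∈ centralizer ({a} : Set G) := mem_centralizer_singleton_iff.2 (h.commute ha hσ).symm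
  have haT : a ∈ T a ⊓ centralizer (A : Set G) := Subgroup.mem_inf.2 ⟨by
    have key : (σ⁻¹ * σ⁻¹)⁻¹ ∈ T a := inv_mem (by
      nth_rw 1 [← hts]
      rw [show t * σ * t⁻¹ * σ⁻¹ = t * (σ * t⁻¹ * σ⁻¹) by group]
      exact mul_mem ht ((mem_normalizer_iff.1 (hNT hσC) _).1 (inv_mem ht)))
    rwa [← mul_inv_rev, inv_inv, hσa] at key, h.central (h.le ha)⟩
  rw [hT.inf_eq_bot h ha ha1, mem_bot] at haT
  exact ha1 haT

theorem sum_normSq_apply_le (B : Finset (IrrCharacter G))
    (hB : ∀ χ ∈ B, ∀ ρ ∈ T a ⊔ coreA A, (χ : G → ℂ) (a * ρ) = (χ : G → ℂ) a) :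
    ∑ χ ∈ B, Complex.normSq ((χ : G → ℂ) a) ≤ 320 := by
  classical
  set O := T a ⊔ coreA A with hO
  have := Fintype.ofFinite O
  have := Fintype.ofFinite (IrrCharacter G)
  set H := centralizer ({a} : Set G)
  have hH : Nat.card H = 320 * Nat.card O := by
    rw [hT.card_centralizer h ha ha1, hT.card_centralizer_A h ha ha1, hT.card_sup h ha ha1]; ring
  have hpow : ∀ ρ ∈ O, (a * ρ) ^ Nat.card O = a := fun ρ hρ => by
    obtain ⟨l, hl⟩ := hT.odd_sup h ha ha1
    rw [(commute_sup hT h ha ha1 hρ).mul_pow, orderOf_dvd_iff_pow_eq_one.1 (orderOf_dvd_natCard _ hρ),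
      mul_one, hl, pow_succ, pow_mul, pow_two, h.sq ha, one_pow, one_mul]
  have key : ∀ ρ : O, ((Finset.univ.filter fun ρ' : O => IsConj (a * (ρ : G)) (a * ρ')).card : ℝ) *
      (Nat.card (centralizer ({a * (ρ : G)} : Set G)) : ℝ) ≤ (Nat.card H : ℝ) := by
    intro ρ
    rw [← Nat.cast_mul, Nat.cast_le, ← Fintype.card_subtype, ← Nat.card_eq_fintype_card, ← Nat.card_prod]
    have hcs : ∀ x : {ρ' : O // IsConj (a * (ρ : G)) (a * ρ')}, ∃ g : G, g * (a * ρ) * g⁻¹ = a * x.1 :=
      fun x => isConj_iff.1 x.2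
    choose g hg using hcs
    have hval : ∀ (x : {ρ' : O // IsConj (a * (ρ : G)) (a * ρ')})
        (c : centralizer ({a * (ρ : G)} : Set G)),
        g x * c * (a * ρ) * (g x * c)⁻¹ = a * x.1 := fun x c => by
      rw [show g x * c * (a * (ρ : G)) * (g x * c)⁻¹ = g x * (c * (a * ρ) * (c : G)⁻¹) * (g x)⁻¹ by group,
        mem_centralizer_singleton_iff.1 c.2, mul_inv_cancel_right, hg]
    refine Nat.card_le_card_of_injective (fun q => (⟨g q.1 * q.2, ?_⟩ : H)) ?_
    · refine mem_centralizer_singleton_iff.2 (mul_inv_eq_iff_eq_mul.1 ?_)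
      have := congrArg (· ^ Nat.card O) (hval q.1 q.2)
      rwa [conj_pow, hpow _ ρ.2, hpow _ q.1.1.2] at this
    · rintro ⟨x, c⟩ ⟨y, d⟩ e
      have e' : g x * c = g y * d := congrArg Subtype.val e
      have h1 : a * (x.1 : G) = a * y.1 := by rw [← hval x c, e', hval y d]
      have hxy : x = y := Subtype.ext (Subtype.ext (mul_left_cancel h1))
      subst hxy
      exact Prod.ext rfl (Subtype.ext (mul_left_cancel e'))
  have tot : ∑ χ : IrrCharacter G, Complex.normSq (∑ ρ : O, (χ : G → ℂ) (a * ρ)) ≤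
      (Nat.card O : ℝ) * Nat.card H := by
    have e : ∑ χ : IrrCharacter G, Complex.normSq (∑ ρ : O, (χ : G → ℂ) (a * ρ)) =
        ∑ ρ : O, ((Finset.univ.filter fun ρ' : O => IsConj (a * (ρ : G)) (a * ρ')).card : ℝ) *
          (Nat.card (centralizer ({a * (ρ : G)} : Set G)) : ℝ) := by
      refine Complex.ofReal_injective ?_
      push_cast
      simp only [Complex.normSq_eq_conj_mul_self, map_sum, Finset.sum_mul_sum]
      rw [Finset.sum_comm, Finset.sum_congr rfl fun ρ _ => Finset.sum_comm, Finset.sum_comm]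
      refine Finset.sum_congr rfl fun ρ _ => ?_
      rw [Finset.sum_congr rfl fun (ρ' : O) _ => (Finset.sum_congr rfl fun χ _ => mul_comm _ _).trans
        (Char.column_orth (a * (ρ : G)) (a * (ρ' : G))), ← Finset.sum_filter, Finset.sum_const,
        nsmul_eq_mul]
    rw [e]
    refine (Finset.sum_le_sum fun ρ _ => key ρ).trans ?_
    rw [Finset.sum_const, Finset.card_univ, nsmul_eq_mul, Nat.card_eq_fintype_card (α := O)]
  have hOpos : (0 : ℝ) < Nat.card O := Nat.cast_pos.2 Nat.card_pos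
  have hsub := (Finset.sum_le_sum_of_subset_of_nonneg (Finset.subset_univ B)
    fun χ _ _ => Complex.normSq_nonneg _).trans tot
  rw [Finset.sum_congr (g := fun χ : IrrCharacter G =>
      (Nat.card O : ℝ) * Nat.card O * Complex.normSq ((χ : G → ℂ) a)) rfl fun χ hχ => by
    rw [Finset.sum_congr rfl fun (ρ : O) _ => hB χ hχ ρ ρ.2, Finset.sum_const, Finset.card_univ,
      nsmul_eq_mul, Complex.normSq_mul, Complex.normSq_natCast, Nat.card_eq_fintype_card],
    ← Finset.mul_sum, hH] at hsub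
  push_cast at hsub
  refine le_of_mul_le_mul_left ?_ (mul_pos hOpos hOpos)
  linarith

end TorusData

end Cfsg.Agent.Goldschmidt.ThreeInv
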