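import Cfsg.Agent.Lib.Goldschmidt.ThreeInv.Chars.Weights
import Cfsg.Agent.Lib.Goldschmidt.ThreeInv.Chars.Constancy

/-!
# Three involutions, section 3: the fixed space of `T a` (owner: helper84)

* `TorusData.eq_one_of_commute_other` : `b` and its roots have no fixed points on `T a`
* `TorusData.fixed_bounds`            : `|u| ≤ D` and `0 ≤ D + 3 u + 60 w`
-/

set_option autoImplicit false
set_option linter.unusedSectionVars false

namespace Cfsg.Agent.Goldschmidt.ThreeInv

open Cfsg Subgroup Blocks SecondMain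

universe u

variable {G : Type u} [Group G] [Finite G] {S : Sylow 2 G} {A : Subgroup G}

namespace TorusData

variable {T : G → Subgroup G} (hT : TorusData S A T) (h : Setting S A) {a : G} (ha : a ∈ A) (ha1 : a ≠ 1)
  {M : Ideal AlgInt}

include hT h ha ha1

theorem eq_one_of_commute_other {b : G} (hb : b ∈ A) (hb1 : b ≠ 1) (hba : b ≠ a) {t : G} (ht : t ∈ T a)
    (hc : Commute t b) : t = 1 := by
  have h1 := hT.inverts a ha ha1 b hb hb1 hba t ht
  rw [← hc.eq, mul_inv_cancel_right] at h1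
  obtain ⟨m, hm⟩ := (hT.odd a ha ha1).of_dvd_nat (Subgroup.orderOf_dvd_natCard _ ht)
  have h2 := pow_orderOf_eq_one t
  rw [hm, pow_succ, pow_mul, pow_two, show t * t = 1 from mul_eq_one_iff_eq_inv.2 h1, one_pow, one_mul] at h2
  exact h2

variable [IsSimpleGroup G]

theorem fixed_bounds [Fintype (T a)] (hM : IsPModular 2 M) {χ : IrrCharacter G}
    (hχ : χ ∈ principalBlock M G) {σ : G} (hσ : σ ∈ (S : Subgroup G)) (hσa : σ * σ = a) {d : ℕ} {u w : ℤ}
    (hu : (χ : G → ℂ) a = u) (hw : (χ : G → ℂ) σ = w)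
    (hd : weight (χ : G → ℂ) (T a) ((1 : ↥(T a) →* ℂ) : ↥(T a) → ℂ) 1 = d) :
    |u| ≤ (d : ℤ) ∧ 0 ≤ (d : ℤ) + 3 * u + 60 * w := by
  classical
  have hcl : ∀ g y : G, (χ : G → ℂ) (y * g * y⁻¹) = (χ : G → ℂ) g := fun g y =>
    Char.IsIrrCharacter.isClassFunction χ.2 g y
  have hχc := Char.IsIrrCharacter.isCharacter χ.2
  have hn : (Nat.card (T a) : ℂ) ≠ 0 := Nat.cast_ne_zero.2 Nat.card_pos.ne'
  have hW : ∀ g : G, ∀ c : ℂ, (∀ t ∈ T a, (χ : G → ℂ) (t * g) = c) →
      weight (χ : G → ℂ) (T a) ((1 : ↥(T a) →* ℂ) : ↥(T a) → ℂ) g = c := by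
    intro g c hc
    rw [weight, Finset.sum_congr rfl fun (t : T a) _ => by rw [hc t t.2, MonoidHom.one_apply, map_one,
      mul_one], Finset.sum_const, Finset.card_univ, nsmul_eq_mul, ← Nat.card_eq_fintype_card, ← mul_assoc,
      inv_mul_cancel₀ hn, one_mul]
  have hsum : ∑ t : T a, (χ : G → ℂ) t = (Nat.card (T a) : ℂ) * d := by
    rw [← hd, weight, ← mul_assoc, mul_inv_cancel₀ hn, one_mul]
    exact Finset.sum_congr rfl fun t _ => by simp
  have hO : ∀ t ∈ T a, t ∈ T a ⊔ coreA A := fun t ht => mem_sup_left ht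
  have hta : ∀ t ∈ T a, (χ : G → ℂ) (a * t) = u := fun t ht => by
    rw [hT.apply_mul_inv h ha ha1 hM hχ (hO t ht), hu]
  constructor
  · obtain ⟨m, k, hm, hk⟩ := exists_trace_add_sub hχc (h.sq ha)
      fun t ht => commute_sup hT h ha ha1 (hO t ht)
    rw [hsum, Finset.sum_congr rfl fun (t : T a) _ => hta t t.2, Finset.sum_const, Finset.card_univ,
      nsmul_eq_mul, ← Nat.card_eq_fintype_card] at hm hk
    have em : ((d : ℤ) + u) = 2 * m := Int.cast_injective (α := ℂ) (by
      push_cast; exact mul_left_cancel₀ hn (by linear_combination hm))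
    have ek : ((d : ℤ) - u) = 2 * k := Int.cast_injective (α := ℂ) (by
      push_cast; exact mul_left_cancel₀ hn (by linear_combination hk))
    exact abs_le.2 ⟨by omega, by omega⟩
  -- the fixed space of `T a S`
  have hSC : (S : Subgroup G) ≤ centralizer ({a} : Set G) := fun s hs =>
    mem_centralizer_singleton_iff.2 (h.commute ha hs).symm
  have hSN : (S : Subgroup G) ≤ normalizer (T a : Set G) := hSC.trans (hT.normal a ha ha1)
  have := Fintype.ofFinite (S : Subgroup G)
  obtain ⟨m, hm⟩ := Char.IsCharacter.classInner_nat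
    (isCharacter_weight hχc hSN (1 : ↥(T a) →* ℂ) fun _ _ _ _ _ => rfl) Char.isCharacter_one
  have e := Char.card_mul_classInner (fun s : ↥(S : Subgroup G) =>
    weight (χ : G → ℂ) (T a) ((1 : ↥(T a) →* ℂ) : ↥(T a) → ℂ) s) (1 : ↥(S : Subgroup G) → ℂ)
  rw [hm, h.card_S] at e
  simp only [Pi.one_apply, map_one, mul_one] at e
  set I := Finset.univ.filter fun s : (S : Subgroup G) => (s : G) * s = 1 with hI
  have hI4 : I.card = 4 := by
    rw [hI, ← Fintype.card_subtype, ← Nat.card_eq_fintype_card, h.card_invol]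
  have hcard : (Finset.univ.filter fun s : (S : Subgroup G) => ¬ (s : G) * s = 1).card = 60 := by
    have := Finset.card_filter_add_card_filter_not (s := (Finset.univ : Finset (S : Subgroup G)))
      fun s => (s : G) * s = 1
    rw [← hI, hI4, Finset.card_univ, ← Nat.card_eq_fintype_card, h.card_S] at this
    omega
  have hfree : ∀ s : (S : Subgroup G), (s : G) * s ≠ a → (s : G) * s ≠ 1 ∨ ((s : G) ≠ a ∧ (s : G) ≠ 1) →
      ∀ t ∈ T a, (χ : G → ℂ) (t * s) = (χ : G → ℂ) s := by
    intro s hsa hs t ht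
    have hff : ∀ r ∈ T a, Commute r (s : G) → r = 1 := by
      intro r hr hc
      rcases hs with hs | ⟨hs1, hs2⟩
      · exact eq_one_of_commute_other hT h ha ha1 (h.sq_mem s.2) hs hsa hr (hc.mul_right hc)
      · by_cases hss : (s : G) * s = 1
        · exact eq_one_of_commute_other hT h ha ha1 ((h.mem _ s.2).1 hss) hs2 hs1 hr hc
        · exact eq_one_of_commute_other hT h ha ha1 (h.sq_mem s.2) hss hsa hr (hc.mul_right hc)
    obtain ⟨g, hg⟩ := isConj_iff.1 (isConj_mul_of_fixed_free (T := T a) (x := (s : G))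
      (fun r hr => (mem_normalizer_iff.1 (hSN s.2) r).1 hr) hff ht)
    rw [← hg, hcl]
  rw [← Finset.sum_filter_add_sum_filter_not Finset.univ (fun s : (S : Subgroup G) => (s : G) * s = 1),
    ← hI, ← Finset.add_sum_erase I _ (show (1 : (S : Subgroup G)) ∈ I by simp [hI]),
    Subgroup.coe_one, hd,
    Finset.sum_congr (g := fun _ => (u : ℂ)) rfl fun s hs => ?_, Finset.sum_const,
    Finset.card_erase_of_mem (show (1 : (S : Subgroup G)) ∈ I by simp [hI]), hI4,
    Finset.sum_congr (g := fun _ => (w : ℂ)) rfl fun s hs => ?_, Finset.sum_const, hcard] at e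
  · simp only [nsmul_eq_mul] at e
    have : (d : ℤ) + 3 * u + 60 * w = 64 * m := Int.cast_injective (α := ℂ) (by
      push_cast at e ⊢; linear_combination -e)
    omega
  · have hss := (Finset.mem_filter.1 hs).2
    refine hW _ _ fun t ht => ?_
    obtain ⟨c, hc⟩ := isConj_iff.1 (h.isConj_root hT ha ha1 hσ hσa (h.central s.2) (h.sq_mem s.2) hss)
    have hws : (χ : G → ℂ) s = w := by rw [← hw, ← hc, hcl]
    by_cases hsa : (s : G) * s = a
    · rw [← hcl (t * s) s, show (s : G) * (t * s) * (s : G)⁻¹ = s * t by group,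
        hT.apply_mul_root h ha ha1 hM hχ hsa (hO t ht), hws]
    · rw [hfree s hsa (Or.inl hss) t ht, hws]
  · obtain ⟨hs1, hs⟩ := Finset.mem_erase.1 hs
    have hsA : (s : G) ∈ A := (h.mem _ s.2).1 (Finset.mem_filter.1 hs).2
    have hs1' : (s : G) ≠ 1 := fun e => hs1 (Subtype.ext e)
    refine hW _ _ fun t ht => ?_
    by_cases hsa : (s : G) = a
    · rw [hsa, ← (commute_sup hT h ha ha1 (hO t ht)).eq, hta t ht]
    · obtain ⟨g, -, hg⟩ := h.fused ha ha1 hsA hs1'
      rw [hfree s (by rw [(Finset.mem_filter.1 hs).2]; exact ha1.symm) (Or.inr ⟨hsa, hs1'⟩) t ht, ← hu,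
        ← hg, hcl]

end TorusData

end Cfsg.Agent.Goldschmidt.ThreeInv
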