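import Cfsg.Agent.EqLemmas
import Mathlib.Analysis.SpecialFunctions.Pow.Real
import Mathlib.Tactic.Linarith

/-!
# Three involutions, section 3: the arithmetic (owner: helper84)

Notation of `../../THREE_INVOLUTIONS_SECTION3.md`: `o = |O(C(A))|`, `j = [O(C(A)) : K₀]`, `n = |T a|`, `N` the degree,
`D` the dimension of the fixed space of `T a`, `u` the value at `a`, `-w` the value at the roots of `a`.

* `degree_ge` : the bounds force `320 w ≤ N`
-/

set_option autoImplicit false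

namespace Cfsg.Agent.Goldschmidt.ThreeInv

/-- The case of a stabiliser without elements of order five. -/
theorem degree_ge_of_large {o j : ℕ} {n N D u : ℝ} {w : ℕ} (ho : 1 ≤ o) (hjo : o ≤ j * j)
    (hj : Odd j) (hw : w ≤ 3) (hD : 15 * (w : ℝ) ≤ D) (hn : 81 ≤ n) (hN0 : 0 ≤ N)
    (hV : (D - N / n) ^ 2 + (o : ℝ) * (u ^ 2 + 20 * (w : ℝ) ^ 2) ≤ 320 * o)
    (hO : D + 320 * (j : ℝ) ≤ N) : 320 * (w : ℝ) ≤ N := by
  by_contra h
  push Not at h
  have hw3 : (w : ℝ) ≤ 3 := by exact_mod_cast hw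
  have hw0 : (0 : ℝ) ≤ w := Nat.cast_nonneg w
  obtain ⟨k, rfl⟩ := hj
  rcases Nat.eq_zero_or_pos k with rfl | hk
  · have ho1 : o = 1 := by omega
    subst ho1
    have hx : N / n ≤ 320 * (w : ℝ) / 81 := by
      have : N / n ≤ N / 81 := div_le_div_of_nonneg_left hN0 (by norm_num) hn
      linarith [div_le_div_of_nonneg_right h.le (show (0 : ℝ) ≤ 81 by norm_num)]
    push_cast at hV hO
    interval_cases w <;> norm_num at * <;> nlinarith [sq_nonneg u]
  · have : (3 : ℝ) ≤ ((2 * k + 1 : ℕ) : ℝ) := by exact_mod_cast (show 3 ≤ 2 * k + 1 by omega)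
    linarith

/-- The bounds of section 3 force a degree of at least `320 w`. -/
theorem degree_ge {o j : ℕ} {n N D u : ℝ} {w : ℕ} (ho : 1 ≤ o) (hdvd : j ∣ o) (ho2 : Odd o)
    (hjo : o ≤ j * j) (hu : |u| ≤ D) (hC : 60 * (w : ℝ) ≤ D + 3 * u) (hDN : D ≤ N)
    (hn : 81 ≤ n) (hB : D ^ 2 + (o : ℝ) * (u ^ 2 + 20 * (w : ℝ) ^ 2) + 2 * (N - D) ≤ 320 * o + N ^ 2 / n)
    (hV : (D - N / n) ^ 2 + (o : ℝ) * (u ^ 2 + 20 * (w : ℝ) ^ 2) ≤ 320 * o)
    (hO : D + 320 * (j : ℝ) ≤ N ∨ 625 ≤ n ∧ D + 64 * (j : ℝ) ≤ N ∧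
      (o = 9 → j = 3 → D ^ 2 + 1152 + (o : ℝ) * (u ^ 2 + 20 * (w : ℝ) ^ 2) ≤ 320 * o + N ^ 2 / n)) :
    320 * (w : ℝ) ≤ N := by
  have hj : Odd j := by
    obtain ⟨k, rfl⟩ := hdvd
    exact Nat.Odd.of_mul_left ho2
  have ho0 : (0 : ℝ) < o := by exact_mod_cast ho
  have hu2 : u ^ 2 + 20 * (w : ℝ) ^ 2 ≤ 320 := by
    nlinarith [sq_nonneg (D - N / n)]
  have hw4 : w ≤ 4 := by
    have h1 : (w : ℝ) ^ 2 ≤ 16 := by nlinarith [sq_nonneg u]
    have h2 : w * w ≤ 16 := by exact_mod_cast (show (w : ℝ) * w ≤ 16 by nlinarith)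
    nlinarith
  obtain ⟨hu1, hu1'⟩ := abs_le.1 hu
  have hD15 : 15 * (w : ℝ) ≤ D := by linarith
  have hD0 : 0 ≤ D := le_trans (by positivity) hD15
  have hN0 : 0 ≤ N := hD0.trans hDN
  have hn0 : 0 < n := by linarith
  rcases Nat.lt_or_ge w 4 with hw | hw
  swap
  · have hw' : w = 4 := by omega
    subst hw'
    norm_num at *
    have hu0 : u = 0 := by nlinarith
    have hx : D = N / n := by
      have h1 : (D - N / n) ^ 2 ≤ 0 := by subst hu0; nlinarith
      nlinarith [sq_nonneg (D - N / n)]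
    have : D * n = N := by rw [hx]; field_simp
    nlinarith
  rcases hO with hO | ⟨hn', hO, h9⟩
  · exact degree_ge_of_large ho hjo hj (by omega) hD15 hn hN0 hV hO
  by_contra h
  push Not at h
  have hx : N / n ≤ 320 * (w : ℝ) / 625 := by
    have : N / n ≤ N / 625 := div_le_div_of_nonneg_left hN0 (by norm_num) hn'
    linarith [div_le_div_of_nonneg_right h.le (show (0 : ℝ) ≤ 625 by norm_num)]
  have hx0 : 0 ≤ N / n := div_nonneg hN0 hn0.le
  interval_cases w
  · push_cast at h; linarith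
  · -- `w = 1`
    norm_num at *
    have hj4 : j ≤ 4 := by
      by_contra hj5
      have : (5 : ℝ) ≤ j := by exact_mod_cast (show 5 ≤ j by omega)
      linarith
    have hN2 : N ^ 2 / n ≤ 164 := by
      rw [div_le_iff₀ hn0]
      nlinarith
    obtain ⟨k, rfl⟩ := hj
    have hk : k ≤ 1 := by omega
    interval_cases k
    · have : o = 1 := by omega
      subst this
      norm_num at *
      nlinarith [sq_nonneg (3 * D - u)]
    · have h9' : o ≤ 9 := by omega
      obtain ⟨i, rfl⟩ := hdvd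
      obtain ⟨l, rfl⟩ := Nat.Odd.of_mul_right ho2
      have hl : l ≤ 1 := by omega
      interval_cases l
      · norm_num at *
        nlinarith [sq_nonneg (D - u)]
      · norm_num at *
        nlinarith [sq_nonneg (D - 3 * u), h9]
  · -- `w = 2`
    norm_num at *
    have hub : u ≤ 15.5 := by nlinarith only [hu2, sq_nonneg (u - 15.5)]
    have hj8 : j ≤ 8 := by
      by_contra hj9
      have : (9 : ℝ) ≤ j := by exact_mod_cast (show 9 ≤ j by omega)
      linarith
    have ho' : (o : ℝ) ≤ 49 := by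
      obtain ⟨k, rfl⟩ := hj
      have hk : 2 * k + 1 ≤ 7 := by omega
      have : o ≤ 49 := hjo.trans (Nat.mul_le_mul hk hk)
      exact_mod_cast this
    have hlow : 118.9 - 3 * u ≤ D - N / n := by linarith
    have hpos : 0 ≤ 118.9 - 3 * u := by linarith
    have h1 : (118.9 - 3 * u) ^ 2 ≤ (D - N / n) ^ 2 := pow_le_pow_left₀ hpos hlow 2
    have h2 : (o : ℝ) * (240 - u ^ 2) ≤ 49 * (240 - u ^ 2) :=
      mul_le_mul_of_nonneg_right ho' (by linarith)
    nlinarith only [h1, h2, hV, sq_nonneg (116 * u - 713.4)]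
  · -- `w = 3`
    norm_num at *
    have hub : u ≤ 11.85 := by nlinarith only [hu2, sq_nonneg (u - 11.85)]
    have hj12 : j ≤ 12 := by
      by_contra hj13
      have : (13 : ℝ) ≤ j := by exact_mod_cast (show 13 ≤ j by omega)
      linarith
    have ho' : (o : ℝ) ≤ 121 := by
      obtain ⟨k, rfl⟩ := hj
      have hk : 2 * k + 1 ≤ 11 := by omega
      have : o ≤ 121 := hjo.trans (Nat.mul_le_mul hk hk)
      exact_mod_cast this
    have hlow : 178.4 - 3 * u ≤ D - N / n := by linarith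
    have hpos : 0 ≤ 178.4 - 3 * u := by linarith
    have h1 : (178.4 - 3 * u) ^ 2 ≤ (D - N / n) ^ 2 := pow_le_pow_left₀ hpos hlow 2
    have h2 : (o : ℝ) * (140 - u ^ 2) ≤ 121 * (140 - u ^ 2) :=
      mul_le_mul_of_nonneg_right ho' (by linarith)
    nlinarith only [h1, h2, hV, sq_nonneg (260 * u - 1070.4)]

end Cfsg.Agent.Goldschmidt.ThreeInv
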