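import Cfsg.Agent.Lib.Goldschmidt.ThreeInv.Chars.Weights
import Mathlib.GroupTheory.Sylow

/-!
# Three involutions, section 3: orbits of weights (owner: helper84)

* `weightStab`, `mem_weightStab` : the stabiliser of a weight in a subgroup normalising `T`
* `orbit_sum_le`                 : `[C : Stab μ] D μ` is at most the sum of the non-trivial multiplicities
* `card_dvd_of_vanish`           : a character vanishing off `1` has degree a multiple of the order
* `card_mul_le_sum_normSq`       : a character of an abelian group has norm at least its degree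
* `exists_five`, `fixed_modEq`   : elements of 5-power order
-/

set_option autoImplicit false

open scoped ComplexConjugate

namespace Cfsg.Agent.Goldschmidt.ThreeInv

open Cfsg Subgroup

universe u

variable {G : Type u} [Group G]

/-- The stabiliser in `C` of a weight `μ` of `T`. -/
def weightStab (T C : Subgroup G) (hC : C ≤ normalizer (T : Set G)) (μ : T → ℂ) : Subgroup G where
  carrier := {g | g ∈ C ∧ ∀ t t' : T, (t' : G) = g * t * g⁻¹ → μ t' = μ t}
  one_mem' := ⟨C.one_mem, fun t t' e => congrArg μ (Subtype.ext (by simpa using e))⟩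
  mul_mem' := fun {g h} hg hh => ⟨mul_mem hg.1 hh.1, fun t t' e => by
    have ht : h * (t : G) * h⁻¹ ∈ T := (mem_normalizer_iff.1 (hC hh.1) _).1 t.2
    rw [hg.2 ⟨_, ht⟩ t' (by rw [e]; group), hh.2 t ⟨_, ht⟩ rfl]⟩
  inv_mem' := fun {g} hg => ⟨inv_mem hg.1, fun t t' e => (hg.2 t' t (by rw [e]; group)).symm⟩

theorem mem_weightStab {T C : Subgroup G} {hC : C ≤ normalizer (T : Set G)} {μ : T → ℂ} {g : G} :
    g ∈ weightStab T C hC μ ↔ g ∈ C ∧ ∀ t t' : T, (t' : G) = g * t * g⁻¹ → μ t' = μ t := Iff.rfl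

/-- A character vanishing on `P#` has degree divisible by `|P|`. -/
theorem card_dvd_of_vanish {L : Type*} [Group L] [Finite L] {ψ : L → ℂ} (hψ : IsCharacter L ψ) {d : ℕ}
    (h1 : ψ 1 = d) (h0 : ∀ l : L, l ≠ 1 → ψ l = 0) : Nat.card L ∣ d := by
  classical
  have := Fintype.ofFinite L
  obtain ⟨k, hk⟩ := Char.IsCharacter.classInner_nat hψ Char.isCharacter_one
  have e := Char.card_mul_classInner ψ (1 : L → ℂ)
  rw [hk] at e
  simp only [Pi.one_apply, map_one, mul_one] at e
  rw [Finset.sum_eq_single 1 (fun l _ hl => h0 l hl) (fun h => absurd (Finset.mem_univ _) h), h1] at e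
  exact ⟨k, by exact_mod_cast e.symm⟩

/-- A character of an abelian group has norm at least its degree. -/
theorem card_mul_le_sum_normSq {L : Type*} [Group L] [Fintype L] (hc : ∀ x y : L, x * y = y * x)
    {ψ : L → ℂ} (hψ : IsCharacter L ψ) {d : ℕ} (h1 : ψ 1 = d) :
    (Nat.card L : ℝ) * d ≤ ∑ l, Complex.normSq (ψ l) := by
  classical
  have := Fintype.ofFinite (IrrCharacter L)
  have hcl : IsClassFunction L ψ := fun s t => by
    show ψ _ = ψ _
    rw [hc t s, mul_inv_cancel_right]
  choose m hm using fun θ : IrrCharacter L =>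
    Char.IsCharacter.classInner_nat hψ (Char.IsIrrCharacter.isCharacter θ.2)
  have h2 := Char.classInner_eq_sum hcl ψ
  simp only [hm, Complex.conj_natCast] at h2
  have h3 := congrFun (Char.classFunction_eq_sum hcl) 1
  simp only [Finset.sum_apply, Pi.smul_apply, smul_eq_mul, hm, h1,
    Char.apply_one_eq_one_of_comm hc, mul_one] at h3
  have e := Char.card_mul_classInner ψ ψ
  rw [h2] at e
  have e' : (Nat.card L : ℝ) * ((∑ θ, m θ * m θ : ℕ) : ℝ) = ∑ l, Complex.normSq (ψ l) := by
    refine Complex.ofReal_injective ?_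
    push_cast
    simp only [Complex.normSq_eq_conj_mul_self, mul_comm (conj _)]
    exact e
  rw [← e']
  refine mul_le_mul_of_nonneg_left ?_ (Nat.cast_nonneg _)
  rw [Nat.cast_le, show d = ∑ θ, m θ by exact_mod_cast h3]
  exact Finset.sum_le_sum fun θ _ => Nat.le_mul_self (m θ)

/-- The conjugates of a non-trivial weight all have its multiplicity. -/
theorem orbit_sum_le [Finite G] {T C : Subgroup G} [Fintype T] [Fintype (IrrCharacter T)]
    [IsMulCommutative T] (hC : C ≤ normalizer (T : Set G)) {χ : G → ℂ}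
    (hχ : ∀ g y : G, χ (y * g * y⁻¹) = χ g) {μ : T →* ℂ} (hμ : μ ≠ 1) :
    ∃ O : Finset (IrrCharacter T), O.card * Nat.card (weightStab T C hC μ) = Nat.card C ∧
      ∀ ν ∈ O, (ν : T → ℂ) ≠ 1 ∧ weight χ T (ν : T → ℂ) 1 = weight χ T μ 1 ∧
        ∃ g ∈ C, ∀ t t' : T, (t' : G) = g * t * g⁻¹ → (ν : T → ℂ) t = μ t' := by
  classical
  have := Fintype.ofFinite G
  let cj : C → (T →* T) := fun g => MonoidHom.mk'
    (fun t => ⟨(g : G) * t * (g : G)⁻¹, (mem_normalizer_iff.1 (hC g.2) _).1 t.2⟩)
    fun s t => Subtype.ext (by simp [mul_assoc])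
  let f : C → IrrCharacter T := fun g => ⟨μ.comp (cj g), Char.isIrrCharacter_of_hom _⟩
  have hval : ∀ (g : C) (t t' : T), (t' : G) = g * t * (g : G)⁻¹ → (f g : T → ℂ) t = μ t' :=
    fun g t t' e => congrArg μ (Subtype.ext e.symm)
  have hfib : ∀ g h : C, f g = f h ↔ (g : G) * (h : G)⁻¹ ∈ weightStab T C hC μ := by
    intro g h
    refine ⟨fun e => ⟨mul_mem g.2 (inv_mem h.2), fun t t' et => ?_⟩, fun e => ?_⟩
    · have hs : (h : G)⁻¹ * t * h ∈ T := by
        simpa using (mem_normalizer_iff.1 (hC (inv_mem h.2)) (t : G)).1 t.2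
      have e1 := congrFun (congrArg Subtype.val e) ⟨_, hs⟩
      rw [hval g ⟨_, hs⟩ t' (by rw [et]; group), hval h ⟨_, hs⟩ t (by group)] at e1
      exact e1
    · refine Subtype.ext (funext fun t => ?_)
      rw [hval g t (cj g t) rfl, hval h t (cj h t) rfl]
      exact e.2 (cj h t) (cj g t) (by show (g : G) * t * (g : G)⁻¹ = _ * ((h : G) * t * (h : G)⁻¹) * _; group)
  refine ⟨Finset.univ.image f, ?_, fun ν hν => ?_⟩
  · set R := weightStab T C hC μ
    have hRC : R ≤ C := fun g hg => hg.1
    have e : ∀ ν ∈ Finset.univ.image f,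
        (Finset.univ.filter fun g : C => f g = ν).card = Nat.card R := by
      intro ν hν
      obtain ⟨h, -, rfl⟩ := Finset.mem_image.1 hν
      rw [← Fintype.card_subtype, ← Nat.card_eq_fintype_card]
      exact Nat.card_congr
        { toFun := fun g => ⟨(g.1 : G) * (h : G)⁻¹, (hfib g.1 h).1 g.2⟩
          invFun := fun r => ⟨⟨(r : G) * h, mul_mem (hRC r.2) h.2⟩, (hfib _ h).2 (by simp)⟩
          left_inv := fun g => Subtype.ext (Subtype.ext (by simp))
          right_inv := fun r => Subtype.ext (by simp) }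
    rw [Nat.card_eq_fintype_card (α := C), ← Finset.card_univ,
      Finset.card_eq_sum_card_image f Finset.univ, Finset.sum_congr rfl e, Finset.sum_const, smul_eq_mul]
  · obtain ⟨h, -, rfl⟩ := Finset.mem_image.1 hν
    refine ⟨fun e => hμ (MonoidHom.ext fun t => ?_), ?_, h, h.2, hval h⟩
    · have hs : (h : G)⁻¹ * t * h ∈ T := by
        simpa using (mem_normalizer_iff.1 (hC (inv_mem h.2)) (t : G)).1 t.2
      have e1 := congrFun e ⟨_, hs⟩
      rw [hval h ⟨_, hs⟩ t (by group)] at e1
      exact e1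
    · simp only [weight, mul_one]
      congr 1
      refine Fintype.sum_bijective (cj h) (Finite.injective_iff_bijective.1 fun s r e => ?_) _ _
        fun t => ?_
      · exact Subtype.ext (mul_left_cancel (mul_right_cancel (congrArg Subtype.val e)))
      · rw [hval h t (cj h t) rfl]
        congr 1
        exact (hχ t h).symm

/-- A subgroup whose index over a normal subgroup is a multiple of five has a 5-element outside it. -/
theorem exists_five [Finite G] {O L : Subgroup G} (h5 : 5 * Nat.card ↥(O ⊓ L) ∣ Nat.card L) :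
    ∃ r ∈ L, r ∉ O ∧ ∃ k : ℕ, r ^ 5 ^ k = 1 := by
  have := Fact.mk (by norm_num : Nat.Prime 5)
  by_contra hno
  push Not at hno
  obtain ⟨P⟩ := (inferInstance : Nonempty (Sylow 5 L))
  have hle : ((P : Subgroup L).map L.subtype) ≤ O ⊓ L := by
    rintro x ⟨y, hy, rfl⟩
    obtain ⟨k, hk⟩ := P.2 ⟨y, hy⟩
    refine ⟨by_contra fun hx => hno _ y.2 hx k ?_, y.2⟩
    have := congrArg Subtype.val (congrArg Subtype.val hk)
    simpa using this
  have h1 : Nat.card P ∣ Nat.card ↥(O ⊓ L) := by
    have := card_dvd_of_le hle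
    rwa [card_map_of_injective L.subtype_injective] at this
  have h2 : 5 * Nat.card P ∣ Nat.card L := (Nat.mul_dvd_mul_left 5 h1).trans h5
  rw [← (P : Subgroup L).card_mul_index, mul_comm 5] at h2
  exact P.not_dvd_index ((Nat.mul_dvd_mul_iff_left Nat.card_pos).1 h2)

/-- The fixed points of a 5-element on a subgroup it normalises are congruent to the order mod five. -/
theorem fixed_modEq [Finite G] {X : Subgroup G} {r : G} (hr : r ∈ normalizer (X : Set G))
    (h5 : ∃ k : ℕ, r ^ 5 ^ k = 1) :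
    Nat.card ↥(X ⊓ centralizer ({r} : Set G)) ≡ Nat.card X [MOD 5] := by
  have := Fact.mk (by norm_num : Nat.Prime 5)
  have hp : IsPGroup 5 ↥(zpowers (⟨r, hr⟩ : normalizer (X : Set G))) := by
    obtain ⟨k, hk⟩ := h5
    obtain ⟨i, -, hi⟩ := (Nat.dvd_prime_pow (Fact.out : Nat.Prime 5)).1 (orderOf_dvd_of_pow_eq_one hk)
    exact IsPGroup.of_card (n := i) (by rw [Nat.card_zpowers, Subgroup.orderOf_mk, hi])
  let _ : MulAction ↥(zpowers (⟨r, hr⟩ : normalizer (X : Set G))) X :=
    MulAction.compHom X (X.normalizerMonoidHom.comp (Subgroup.subtype _))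
  refine Nat.ModEq.trans ?_ (hp.card_modEq_card_fixedPoints X).symm
  suffices e : ↥(X ⊓ centralizer ({r} : Set G)) ≃
      ↥(MulAction.fixedPoints ↥(zpowers (⟨r, hr⟩ : normalizer (X : Set G))) X) by rw [Nat.card_congr e]
  refine
    { toFun := fun x => ⟨⟨x, x.2.1⟩, fun g => ?_⟩
      invFun := fun x => ⟨x.1, x.1.2, ?_⟩
      left_inv := fun x => rfl
      right_inv := fun x => rfl }
  · obtain ⟨i, hi⟩ := mem_zpowers_iff.1 g.2
    refine Subtype.ext ?_
    show ((g.1 : normalizer (X : Set G)) : G) * (x : G) * ((g.1 : normalizer (X : Set G)) : G)⁻¹ = x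
    rw [← hi, SubgroupClass.coe_zpow]
    have hc : Commute (x : G) r := mem_centralizer_singleton_iff.1 x.2.2
    rw [← (hc.zpow_right i).eq, mul_inv_cancel_right]
  · have h1 := congrArg Subtype.val (x.2 ⟨⟨r, hr⟩, mem_zpowers _⟩)
    exact mem_centralizer_singleton_iff.2 (mul_inv_eq_iff_eq_mul.1 h1).symm

end Cfsg.Agent.Goldschmidt.ThreeInv
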