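import Cfsg.Agent.Lib.Goldschmidt.ThreeInv.Chars.Fixed
import Cfsg.Agent.Lib.Goldschmidt.ThreeInv.Chars.WeightStab
import Mathlib.GroupTheory.PGroup

/-!
# Three involutions, section 3: the stabiliser of a weight (owner: helper84)

* `TorusData.weightStabA`          : the stabiliser of a weight in `C(A)`
* `TorusData.exists_fixed`         : its elements have fixed points on `T a`
* `TorusData.even_weight`          : non-trivial multiplicities are even
* `TorusData.card_sylow_dvd`       : and multiples of the order of a 2-subgroup of the stabiliser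
* `TorusData.card_core_le_sq`      : `o ≤ j²`
* `TorusData.not_centralises`      : a 5-element outside `O(C(A))` moves `T a`
* `TorusData.commute_core_of_nine` : `C(A)` centralises `O(C(A))` if `o = 9`
-/

set_option autoImplicit false
set_option linter.unusedSectionVars false

namespace Cfsg.Agent.Goldschmidt.ThreeInv

open Cfsg Subgroup Blocks SecondMain

universe u

variable {G : Type u} [Group G] [Finite G] {S : Sylow 2 G} {A : Subgroup G}

namespace TorusData

variable {T : G → Subgroup G} (hT : TorusData S A T) (h : Setting S A) {a : G} (ha : a ∈ A) (ha1 : a ≠ 1)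
  {M : Ideal AlgInt}

include hT h ha ha1

theorem centralizer_A_normalizes : centralizer (A : Set G) ≤ normalizer (T a : Set G) :=
  (hT.centralizer_A_le h ha ha1).trans (hT.normal a ha ha1)

/-- The stabiliser of a weight in `C(A)`. -/
noncomputable abbrev weightStabA (μ : ↥(T a) → ℂ) : Subgroup G :=
  weightStab (T a) (centralizer (A : Set G)) (centralizer_A_normalizes hT h ha ha1) μ

/-- An element of the stabiliser of a non-trivial weight has a fixed point. -/
theorem exists_fixed {μ : ↥(T a) →* ℂ} (hμ : μ ≠ 1) {y : G}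
    (hy : y ∈ weightStabA hT h ha ha1 μ) : ∃ t ∈ T a, t ≠ 1 ∧ Commute t y := by
  by_contra hno
  push Not at hno
  have hn : ∀ t ∈ T a, y * t * y⁻¹ ∈ T a := fun t ht =>
    (mem_normalizer_iff.1 (centralizer_A_normalizes hT h ha ha1 hy.1) t).1 ht
  let f : T a → T a := fun s => ⟨(s : G) * (y * (s : G)⁻¹ * y⁻¹), mul_mem s.2 (hn _ (inv_mem s.2))⟩
  have hf : Function.Injective f := by
    intro s r e
    have e' : (s : G) * (y * (s : G)⁻¹ * y⁻¹) = r * (y * (r : G)⁻¹ * y⁻¹) := congrArg Subtype.val e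
    have h1 : (s : G)⁻¹ * r = y * (s : G)⁻¹ * y⁻¹ * (y * (r : G)⁻¹ * y⁻¹)⁻¹ := by
      rw [eq_mul_inv_iff_mul_eq, mul_assoc, ← e']; group
    have hc : Commute ((s : G)⁻¹ * r) y := by
      show (s : G)⁻¹ * r * y = _
      calc (s : G)⁻¹ * r * y = y * (s : G)⁻¹ * y⁻¹ * (y * (r : G)⁻¹ * y⁻¹)⁻¹ * y := by rw [← h1]
        _ = y * ((s : G)⁻¹ * r) := by group
    refine Subtype.ext (inv_mul_eq_one.1 ?_)
    by_contra hne
    exact hno _ (mul_mem (inv_mem s.2) r.2) hne hc
  refine hμ (MonoidHom.ext fun t => ?_)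
  obtain ⟨s, hs⟩ := (Finite.injective_iff_surjective.1 hf) t
  have e1 : μ ⟨y * (s : G)⁻¹ * y⁻¹, hn _ (inv_mem s.2)⟩ = μ s⁻¹ :=
    hy.2 s⁻¹ _ (by simp)
  have e2 : t = s * ⟨y * (s : G)⁻¹ * y⁻¹, hn _ (inv_mem s.2)⟩ := by
    rw [← hs]; exact Subtype.ext rfl
  rw [e2, map_mul, e1, ← map_mul, mul_inv_cancel, map_one, MonoidHom.one_apply]

/-- The only involution of `A` fixing a non-trivial weight is `a`. -/
theorem eq_of_mem_stab {μ : ↥(T a) →* ℂ} (hμ : μ ≠ 1) {b : G} (hb : b ∈ A) (hb1 : b ≠ 1)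
    (hy : b ∈ weightStabA hT h ha ha1 μ) : b = a := by
  by_contra hba
  obtain ⟨t, ht, ht1, hc⟩ := exists_fixed hT h ha ha1 hμ hy
  exact ht1 (eq_one_of_commute_other hT h ha ha1 hb hb1 hba ht hc)

variable [IsSimpleGroup G]

theorem apply_torus_mul [Fintype (T a)] (hM : IsPModular 2 M) {χ : IrrCharacter G}
    (hχ : χ ∈ principalBlock M G) {x : G} (hx : x = a ∨ x * x = a) {t : G} (ht : t ∈ T a) :
    (χ : G → ℂ) (t * x) = (χ : G → ℂ) x := by
  rcases hx with rfl | hxa
  · rw [← (commute_sup hT h ha ha1 (mem_sup_left ht)).eq, hT.apply_mul_inv h ha ha1 hM hχ (mem_sup_left ht)]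
  · rw [← Char.IsIrrCharacter.isClassFunction χ.2 (t * x) x, show x * (t * x) * x⁻¹ = x * t by group,
      hT.apply_mul_root h ha ha1 hM hχ hxa (mem_sup_left ht)]

/-- Multiplicities of non-trivial weights are multiples of the order of a 2-subgroup of the stabiliser. -/
theorem card_two_dvd [Fintype (T a)] (hM : IsPModular 2 M) {χ : IrrCharacter G}
    (hχ : χ ∈ principalBlock M G) {μ : ↥(T a) →* ℂ} (hμ : μ ≠ 1) {d : ℕ}
    (hd : weight (χ : G → ℂ) (T a) (μ : ↥(T a) → ℂ) 1 = d) {P : Subgroup G}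
    (hP : P ≤ weightStabA hT h ha ha1 μ) (h2 : IsPGroup 2 P) : Nat.card P ∣ d := by
  have hPC : P ≤ centralizer (A : Set G) := fun x hx => (hP hx).1
  refine card_dvd_of_vanish (isCharacter_weight (Char.IsIrrCharacter.isCharacter χ.2)
    (hPC.trans (centralizer_A_normalizes hT h ha ha1)) μ fun l hl => (hP hl).2) (by simpa using hd)
    fun l hl => ?_
  obtain ⟨i, hi⟩ := h2 l
  have hi' : (l : G) ^ 2 ^ i = 1 := by simpa using congrArg Subtype.val hi
  have hl1 : (l : G) ≠ 1 := fun e => hl (Subtype.ext e)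
  refine weight_eq_zero (c := (χ : G → ℂ) l) (fun t ht => apply_torus_mul hT h ha ha1 hM hχ ?_ ht) hμ
  obtain ⟨g, hg, hgS⟩ := h.exists_conj_sylow (hPC l.2) hi'
  have hback : ∀ z ∈ A, g⁻¹ * z * g = z := fun z hz => by
    rw [mul_assoc, mem_centralizer_iff.1 hg z hz, inv_mul_cancel_left]
  by_cases hll : (l : G) * l = 1
  · have hlA : g * l * g⁻¹ ∈ A := (h.mem _ hgS).1 (by
      rw [show g * (l : G) * g⁻¹ * (g * l * g⁻¹) = g * ((l : G) * l) * g⁻¹ by group, hll]; group)
    have := hback _ hlA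
    rw [show g⁻¹ * (g * (l : G) * g⁻¹) * g = l by group] at this
    exact Or.inl (eq_of_mem_stab hT h ha ha1 hμ (this ▸ hlA) hl1 (hP l.2))
  · have hsA : g * ((l : G) * l) * g⁻¹ ∈ A := by
      rw [show g * ((l : G) * l) * g⁻¹ = g * l * g⁻¹ * (g * l * g⁻¹) by group]
      exact h.sq_mem hgS
    have := hback _ hsA
    rw [show g⁻¹ * (g * ((l : G) * l) * g⁻¹) * g = (l : G) * l by group] at this
    exact Or.inr (eq_of_mem_stab hT h ha ha1 hμ (this ▸ hsA) hll (mul_mem (hP l.2) (hP l.2)))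

/-- Multiplicities of non-trivial weights are even. -/
theorem even_weight [Fintype (T a)] (hM : IsPModular 2 M) {χ : IrrCharacter G}
    (hχ : χ ∈ principalBlock M G) {μ : ↥(T a) →* ℂ} (hμ : μ ≠ 1) {d : ℕ}
    (hd : weight (χ : G → ℂ) (T a) (μ : ↥(T a) → ℂ) 1 = d) : 2 ∣ d := by
  have ha2 : orderOf a = 2 := orderOf_eq_prime (by rw [pow_two, h.sq ha]) ha1
  have haR : a ∈ weightStabA hT h ha ha1 μ := ⟨h.central (h.le ha), fun t t' e => congrArg μ
    (Subtype.ext (by rw [e, (commute_sup hT h ha ha1 (mem_sup_left t.2)).eq, mul_inv_cancel_right]))⟩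
  have := card_two_dvd hT h ha ha1 hM hχ hμ hd (zpowers_le.2 haR)
    (IsPGroup.of_card (n := 1) (by rw [Nat.card_zpowers, ha2, pow_one]))
  rwa [Nat.card_zpowers, ha2] at this

/-- The weight stabiliser meets `O(C(A))` in a subgroup of order at most `√o`. -/
theorem card_core_le_sq (hC : TorusCent S A T) {μ : ↥(T a) →* ℂ} (hμ : μ ≠ 1) :
    Nat.card ↥(coreA A ⊓ weightStabA hT h ha ha1 μ) * Nat.card ↥(coreA A ⊓ weightStabA hT h ha ha1 μ) ≤
      Nat.card ↥(coreA A) := by
  set K := coreA A ⊓ weightStabA hT h ha ha1 μ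
  obtain ⟨b, hb, hb1, hba⟩ : ∃ b ∈ A, b ≠ 1 ∧ b ≠ a := by
    by_contra hno
    push Not at hno
    have : A ≤ zpowers a := fun x hx => by
      by_cases hx1 : x = 1
      · rw [hx1]; exact one_mem _
      · rw [hno x hx hx1]; exact mem_zpowers a
    have h1 := Subgroup.card_le_of_le this
    rw [h.card, Nat.card_zpowers, orderOf_eq_prime (by rw [pow_two, h.sq ha]) ha1] at h1
    omega
  obtain ⟨g, hgS, hg⟩ := h.fused ha ha1 hb hb1
  have hgA : g ∈ normalizer (A : Set G) := mem_normalizer_fintype fun z hz =>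
    (h.mem _ (hgS z (h.le hz))).1 (by
      rw [show g * z * g⁻¹ * (g * z * g⁻¹) = g * (z * z) * g⁻¹ by group, h.sq hz]; group)
  have hcj : ∀ x ∈ coreA A, g * x * g⁻¹ ∈ coreA A := by
    have hcen : ∀ g ∈ normalizer (A : Set G), ∀ x ∈ centralizer (A : Set G),
        g * x * g⁻¹ ∈ centralizer (A : Set G) := fun g hg x hx =>
      mem_centralizer_iff.2 fun z hz => by
        have h1 : g⁻¹ * z * g ∈ (A : Set G) := by
          simpa using (mem_normalizer_iff.1 (inv_mem hg) z).1 hz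
        have h2 := mem_centralizer_iff.1 hx _ h1
        calc z * (g * x * g⁻¹) = g * (g⁻¹ * z * g * x) * g⁻¹ := by group
          _ = g * x * g⁻¹ * z := by rw [h2]; group
    intro x hx
    refine le_coreA (K := (coreA A).map (MulAut.conj g).toMonoidHom) ?_ ?_ ?_ ⟨x, hx, rfl⟩
    · rintro _ ⟨y, hy, rfl⟩
      exact hcen g hgA y (coreA_le A hy)
    · rw [card_map_of_injective (MulAut.conj g).injective]
      exact odd_coreA A
    · rintro c hc _ ⟨y, hy, rfl⟩
      refine ⟨g⁻¹ * c * g * y * (g⁻¹ * c * g)⁻¹, conj_mem_coreA ?_ hy, ?_⟩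
      · simpa using hcen g⁻¹ (inv_mem hgA) c hc
      · simp only [MulEquiv.coe_toMonoidHom, MulAut.conj_apply]; group
  have hdis : ∀ x ∈ K, ∀ y ∈ K, g * x * g⁻¹ = y → y = 1 := by
    intro x hx y hy e
    by_contra hy1
    obtain ⟨t, ht, ht1, hc⟩ := exists_fixed hT h ha ha1 hμ hy.2
    have hya := hC.fixer y hy.1 hy1 a ha ha1 t ht ht1 hc.eq
    obtain ⟨s, hs, hs1, hsc⟩ := exists_fixed hT h ha ha1 hμ hx.2
    have hs' : g * s * g⁻¹ ∈ T b := hg ▸ hT.equiv g hgA a ha ha1 s hs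
    have hsy : g * s * g⁻¹ ∈ centralizer ({y} : Set G) := mem_centralizer_singleton_iff.2 (by
      rw [← e, show g * s * g⁻¹ * (g * x * g⁻¹) = g * (s * x) * g⁻¹ by group, hsc.eq]; group)
    have hsb := eq_one_of_commute_other hT h hb hb1 ha ha1 (Ne.symm hba) hs'
      (mem_centralizer_singleton_iff.1 (hya hsy))
    exact hs1 (conj_eq_one_iff.1 hsb)
  rw [← Nat.card_prod]
  refine Nat.card_le_card_of_injective
    (fun q : K × K => (⟨(q.1 : G) * (g * q.2 * g⁻¹), mul_mem q.1.2.1 (hcj _ q.2.2.1)⟩ : coreA A)) ?_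
  rintro ⟨x, y⟩ ⟨x', y'⟩ e
  have e' : (x : G) * (g * y * g⁻¹) = x' * (g * y' * g⁻¹) := congrArg Subtype.val e
  have h1 : g * ((y : G) * (y' : G)⁻¹) * g⁻¹ = (x : G)⁻¹ * x' := by
    rw [show g * ((y : G) * (y' : G)⁻¹) * g⁻¹ = g * y * g⁻¹ * (g * y' * g⁻¹)⁻¹ by group,
      eq_inv_mul_iff_mul_eq, ← mul_assoc, e', mul_inv_cancel_right]
  have h2 : (x : G)⁻¹ * x' = 1 := hdis _ (mul_mem y.2 (inv_mem y'.2)) _ (mul_mem (inv_mem x.2) x'.2) h1
  have hx : x = x' := Subtype.ext (inv_mul_eq_one.1 h2)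
  subst hx
  exact Prod.ext rfl (Subtype.ext (mul_left_cancel (mul_right_cancel (mul_left_cancel e'))))

theorem mem_coreA_of_five (hC : TorusCent S A T) {r : G} (h5 : ∃ k : ℕ, r ^ 5 ^ k = 1)
    (hr : r ∈ coreA A ⊔ (S : Subgroup G)) : r ∈ coreA A := by
  have hSN : (S : Subgroup G) ≤ normalizer (coreA A : Set G) := fun s hs =>
    mem_normalizer_fintype fun y hy => conj_mem_coreA (h.central hs) hy
  obtain ⟨x, hx, s, hs, rfl⟩ := (Coprime.mem_sup_iff hSN).1 hr
  obtain ⟨k, hk⟩ := h5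
  have hc : Commute x s := (mem_centralizer_iff.1 (hC.core_cent hx) s hs).symm
  have hs64 : s ^ 64 = 1 :=
    orderOf_dvd_iff_pow_eq_one.1 (h.card_S ▸ Subgroup.orderOf_dvd_natCard _ hs)
  have hgcd : Nat.gcd 64 (orderOf (x * s)) = 1 := Nat.Coprime.coprime_dvd_right
    (orderOf_dvd_of_pow_eq_one hk) (Nat.Coprime.pow_right k (by norm_num))
  have key : x * s = ((x * s) ^ 64) ^ (Nat.gcdA 64 (orderOf (x * s))) := by
    have hb := Nat.gcd_eq_gcd_ab 64 (orderOf (x * s))
    rw [hgcd, Nat.cast_one] at hb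
    conv_lhs => rw [← zpow_one (x * s), hb]
    rw [zpow_add, zpow_mul, zpow_mul, zpow_natCast, zpow_natCast, pow_orderOf_eq_one, one_zpow, mul_one]
  rw [key, hc.mul_pow, hs64, mul_one]
  exact zpow_mem (pow_mem hx 64) _

/-- A 5-element of `C(A)` outside `O(C(A))` moves `T a`. -/
theorem not_centralises (hC : TorusCent S A T) {r : G} (hr : r ∈ centralizer (A : Set G))
    (hrO : r ∉ coreA A) (h5 : ∃ k : ℕ, r ^ 5 ^ k = 1) : ¬ r ∈ centralizer (T a : Set G) := by
  intro hrT
  have hA := hT.le_of_normal h ha ha1 (N := centralizer (A : Set G) ⊓ centralizer (T a : Set G)) inf_le_left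
    (fun g hg x hx => Subgroup.mem_inf.2 ⟨mul_mem (mul_mem hg hx.1) (inv_mem hg), mem_centralizer_iff.2 fun t ht => by
      have h1 : g⁻¹ * t * g ∈ T a := by
        simpa using (mem_normalizer_iff.1 (centralizer_A_normalizes hT h ha ha1 (inv_mem hg)) t).1 ht
      have h2 := mem_centralizer_iff.1 hx.2 _ h1
      calc t * (g * x * g⁻¹) = g * (g⁻¹ * t * g * x) * g⁻¹ := by group
        _ = g * x * g⁻¹ * t := by rw [h2]; group⟩)
    (fun hle => hrO (mem_coreA_of_five hT h ha ha1 hC h5 (hle ⟨hr, hrT⟩)))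
  refine hT.ne a ha ha1 ((eq_bot_iff_forall _).2 fun t ht => ?_)
  obtain ⟨b, hb, hb1, hba⟩ : ∃ b ∈ A, b ≠ 1 ∧ b ≠ a := by
    by_contra hno
    push Not at hno
    have : A ≤ zpowers a := fun x hx => by
      by_cases hx1 : x = 1
      · rw [hx1]; exact one_mem _
      · rw [hno x hx hx1]; exact mem_zpowers a
    have h1 := Subgroup.card_le_of_le this
    rw [h.card, Nat.card_zpowers, orderOf_eq_prime (by rw [pow_two, h.sq ha]) ha1] at h1
    omega
  exact eq_one_of_commute_other hT h ha ha1 hb hb1 hba ht (mem_centralizer_iff.1 (hA hb).2 t ht)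

/-- If `o = 9` then `C(A)` centralises `O(C(A))`. -/
theorem commute_core_of_nine (hC : TorusCent S A T) (h9 : Nat.card ↥(coreA A) = 9) :
    coreA A ≤ centralizer (centralizer (A : Set G) : Set G) := by
  set C := centralizer (A : Set G)
  set K := C ⊓ centralizer (coreA A : Set G)
  have hOK : coreA A ≤ K := le_inf (coreA_le A) fun x hx => mem_centralizer_iff.2 fun y hy => by
    have := IsPGroup.isMulCommutative_of_card_eq_prime_sq (p := 3) (G := ↥(coreA A)) (by rw [h9]; norm_num)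
    exact congrArg Subtype.val (this.is_comm.comm ⟨y, hy⟩ ⟨x, hx⟩)
  have hSK : (S : Subgroup G) ≤ K := le_inf h.central fun s hs => mem_centralizer_iff.2 fun y hy =>
    (mem_centralizer_iff.1 (hC.core_cent hy) s hs).symm
  have h5 : 5 * Nat.card ↥(coreA A ⊓ C) ∣ Nat.card C := by
    rw [inf_eq_left.2 (coreA_le A), hT.card_centralizer_A h ha ha1, h9]
    norm_num
  obtain ⟨r, hr, hrO, hr5⟩ := exists_five h5
  have hrN : r ∈ normalizer (coreA A : Set G) := mem_normalizer_fintype fun y hy => conj_mem_coreA hr hy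
  have hrK : r ∈ K := by
    refine ⟨hr, mem_centralizer_iff.2 fun y hy => ?_⟩
    have hdvd := card_dvd_of_le (inf_le_left : coreA A ⊓ centralizer ({r} : Set G) ≤ coreA A)
    have hmod := fixed_modEq hrN hr5
    rw [h9] at hdvd hmod
    have h99 : Nat.card ↥(coreA A ⊓ centralizer ({r} : Set G)) = 9 := by
      have hle := Nat.le_of_dvd (by norm_num) hdvd
      unfold Nat.ModEq at hmod
      interval_cases h' : Nat.card ↥(coreA A ⊓ centralizer ({r} : Set G)) <;> omega
    have := Subgroup.eq_of_le_of_card_ge inf_le_left (h99.trans h9.symm).ge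
    have hy' : y ∈ coreA A ⊓ centralizer ({r} : Set G) := by rw [this]; exact hy
    exact mem_centralizer_singleton_iff.1 hy'.2
  have hd9 : 9 ∣ Nat.card K := h9 ▸ card_dvd_of_le hOK
  have hd64 : 64 ∣ Nat.card K := h.card_S ▸ card_dvd_of_le hSK
  have hd5 : 5 ∣ Nat.card K := by
    obtain ⟨k, hk⟩ := hr5
    obtain ⟨i, -, hi⟩ := (Nat.dvd_prime_pow (by norm_num : Nat.Prime 5)).1 (orderOf_dvd_of_pow_eq_one hk)
    rcases i with _ | i
    · rw [pow_zero] at hi
      exact absurd (orderOf_eq_one_iff.1 hi ▸ one_mem (coreA A)) hrO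
    · exact (dvd_pow_self 5 i.succ_ne_zero).trans (hi ▸ Subgroup.orderOf_dvd_natCard _ hrK)
  have hall : Nat.card C ∣ Nat.card K := by
    rw [hT.card_centralizer_A h ha ha1, h9]
    exact Nat.Coprime.mul_dvd_of_dvd_of_dvd (by norm_num)
      (Nat.Coprime.mul_dvd_of_dvd_of_dvd (m := 64) (n := 5) (by norm_num) hd64 hd5) hd9
  have hKC : K = C := Subgroup.eq_of_le_of_card_ge inf_le_left (Nat.le_of_dvd Nat.card_pos hall)
  intro x hx
  refine mem_centralizer_iff.2 fun c hc => ?_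
  have : c ∈ K := hKC.symm ▸ hc
  exact (mem_centralizer_iff.1 this.2 x hx).symm

end TorusData

end Cfsg.Agent.Goldschmidt.ThreeInv
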