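import Cfsg.Agent.Lib.Goldschmidt.ThreeInv.Chars.Stabiliser
import Cfsg.Agent.Lib.Goldschmidt.ThreeInv.Chars.Budget
import Cfsg.Agent.Lib.Goldschmidt.ThreeInv.Chars.Num
import Cfsg.Agent.Lib.Goldschmidt.ThreeInv.Chars.Equation

/-!
# Three involutions, section 3: a term of the equation (owner: helper84)

* `TorusData.exists_orbit`   : a weight orbit bounds the degree below
* `TorusData.sum_normSq_ge`  : the part of `∑ |χ|²` on `T K` seen by the orbit
* `TorusData.degree_bound`   : a principal character with value `-w` at the roots has degree `≥ 320 w`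
-/

set_option autoImplicit false
set_option linter.unusedSectionVars false

open scoped ComplexConjugate

namespace Cfsg.Agent.Goldschmidt.ThreeInv

open Cfsg Subgroup Blocks SecondMain

universe u

variable {G : Type u} [Group G] [Finite G] {S : Sylow 2 G} {A : Subgroup G}

namespace TorusData

variable {T : G → Subgroup G} (hT : TorusData S A T) (h : Setting S A) {a : G} (ha : a ∈ A) (ha1 : a ≠ 1)
  {M : Ideal AlgInt}

include hT h ha ha1

variable [IsSimpleGroup G]

/-- A weight orbit of size at least `320 j / |P|`, or `64 j / |P|` with a five-element in the stabiliser. -/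
theorem exists_orbit [Fintype (T a)] [Fintype (IrrCharacter (T a))] (hC : TorusCent S A T)
    (hM : IsPModular 2 M) {χ : IrrCharacter G} (hχ : χ ∈ principalBlock M G)
    {μ : ↥(T a) →* ℂ} (hμ : μ ≠ 1) {d : ℕ}
    (hd : weight (χ : G → ℂ) (T a) (μ : ↥(T a) → ℂ) 1 = d) (hd0 : d ≠ 0) :
    ∃ (j : ℕ) (O : Finset (IrrCharacter (T a))), j ∣ Nat.card ↥(coreA A) ∧ Nat.card ↥(coreA A) ≤ j * j ∧
      Nat.card ↥(coreA A) = j * Nat.card ↥(coreA A ⊓ weightStabA hT h ha ha1 μ) ∧
      (∀ ν ∈ O, (ν : T a → ℂ) ≠ 1 ∧ weight (χ : G → ℂ) (T a) (ν : T a → ℂ) 1 = d ∧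
        ∃ g ∈ centralizer (A : Set G), ∀ t t' : T a, (t' : G) = g * t * g⁻¹ → (ν : T a → ℂ) t = μ t') ∧
      (320 * j ≤ O.card * d ∨ (64 * j ≤ O.card * d ∧ 625 ≤ Nat.card (T a))) := by
  classical
  have := Fact.mk Nat.prime_two
  have : IsMulCommutative (T a) := hT.comm a ha ha1
  set C := centralizer (A : Set G)
  set R := weightStabA hT h ha ha1 μ with hR
  set K := coreA A ⊓ R
  have hRC : R ≤ C := fun g hg => hg.1
  obtain ⟨O, hOcard, hO⟩ := orbit_sum_le (centralizer_A_normalizes hT h ha ha1)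
    (fun g y => Char.IsIrrCharacter.isClassFunction χ.2 g y) hμ
  obtain ⟨j, hj⟩ := card_dvd_of_le (inf_le_left : K ≤ coreA A)
  have hK0 : 0 < Nat.card K := Nat.card_pos
  refine ⟨j, O, Dvd.intro_left _ hj.symm, ?_, by rw [hj, mul_comm], fun ν hν => ?_, ?_⟩
  · have := card_core_le_sq hT h ha ha1 hC hμ
    have h1 : Nat.card K ≤ j := by
      rw [hj] at this
      exact Nat.le_of_mul_le_mul_left this hK0
    rw [hj]
    exact Nat.mul_le_mul_right j h1
  · exact ⟨(hO ν hν).1, (hO ν hν).2.1.trans hd, (hO ν hν).2.2⟩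
  -- the order of the stabiliser
  have hq : Nat.card R ∣ 320 * Nat.card K := by
    have hle : R ≤ normalizer (coreA A : Set G) := fun g hg =>
      mem_normalizer_fintype fun y hy => conj_mem_coreA (hRC hg) hy
    have h1 := Coprime.card_mul_inf (coreA A) R
    rw [← Subgroup.coe_mul_of_right_le_normalizer_left (coreA A) R hle] at h1
    have h2 := card_dvd_of_le (sup_le (coreA_le A) hRC : coreA A ⊔ R ≤ C)
    rw [hT.card_centralizer_A h ha ha1] at h2
    have h3 : Nat.card ↥(coreA A) * Nat.card R ∣ Nat.card ↥(coreA A) * (320 * Nat.card K) := by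
      refine h1.symm.dvd.trans ?_
      rw [← mul_assoc, mul_comm (Nat.card ↥(coreA A)) 320]
      exact Nat.mul_dvd_mul_right h2 _
    exact (Nat.mul_dvd_mul_iff_left Nat.card_pos).1 h3
  obtain ⟨q, hq'⟩ := card_dvd_of_le (inf_le_right : K ≤ R)
  obtain ⟨P⟩ := (inferInstance : Nonempty (Sylow 2 R))
  have hPd : Nat.card P ∣ d := by
    have := card_two_dvd hT h ha ha1 hM hχ hμ hd (P := (P : Subgroup R).map R.subtype)
      (map_subtype_le _) (P.2.map _)
    rwa [card_map_of_injective R.subtype_injective] at this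
  have hKodd : Odd (Nat.card K) := (odd_coreA A).of_dvd_nat (card_dvd_of_le inf_le_left)
  obtain ⟨i, hi⟩ := P.2.exists_card_eq
  have hPq : Nat.card P ∣ q := by
    refine (Nat.Coprime.dvd_mul_left ?_).1 (hq' ▸ Subgroup.card_subgroup_dvd_card (P : Subgroup R))
    rw [hi]
    exact Nat.Coprime.pow_left i (Nat.coprime_two_left.2 hKodd)
  obtain ⟨r, hr⟩ := hPq
  have hr5 : r = 1 ∨ r = 5 := by
    have hrodd : Odd r := by
      refine Nat.not_even_iff_odd.1 fun e => P.not_dvd_index ?_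
      have e1 := (P : Subgroup R).card_mul_index
      rw [hq', hr, ← mul_assoc, mul_comm (Nat.card K), mul_assoc] at e1
      rw [Nat.eq_of_mul_eq_mul_left Nat.card_pos e1]
      exact (even_iff_two_dvd.1 e).mul_left _
    have h1 : r ∣ 320 := by
      have : Nat.card K * (Nat.card P * r) ∣ Nat.card K * 320 := by
        rw [← hr, ← hq', mul_comm _ 320]; exact hq
      exact (Dvd.intro_left _ rfl).trans ((Nat.mul_dvd_mul_iff_left hK0).1 this)
    have h5 : r ∣ 5 := (Nat.Coprime.dvd_mul_left (m := 2 ^ 6)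
      (Nat.Coprime.pow_right 6 (Nat.coprime_two_right.2 hrodd))).1 (by norm_num; exact h1)
    exact (Nat.dvd_prime (by norm_num : Nat.Prime 5)).1 h5
  have hid : O.card * Nat.card P * r = 320 * j := by
    refine Nat.eq_of_mul_eq_mul_left hK0 ?_
    have hOR : O.card * Nat.card R = Nat.card C := hOcard
    rw [hq', hr, hT.card_centralizer_A h ha ha1, hj] at hOR
    linarith
  have hPle : O.card * Nat.card P ≤ O.card * d :=
    Nat.mul_le_mul_left _ (Nat.le_of_dvd (Nat.pos_of_ne_zero hd0) hPd)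
  rcases hr5 with rfl | rfl
  · exact Or.inl (by omega)
  refine Or.inr ⟨by omega, ?_⟩
  obtain ⟨g, hgR, hgO, hg5⟩ := exists_five (O := coreA A) (L := R)
    (show 5 * Nat.card K ∣ Nat.card R by
      rw [hq', hr, mul_comm 5]
      exact Nat.mul_dvd_mul_left _ (Dvd.intro_left _ rfl))
  obtain ⟨k, hk3, hk⟩ := hC.bound a ha ha1
  have hkodd : Odd k := by
    have := hT.odd a ha ha1
    rw [hk] at this
    exact (Nat.odd_pow_iff (by norm_num)).1 this
  obtain ⟨l, rfl⟩ := hkodd
  rcases Nat.lt_or_ge l 2 with hl | hl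
  · exfalso
    have h81 : Nat.card (T a) = 81 := by
      rw [hk, show l = 1 by omega]; norm_num
    obtain ⟨t, ht, ht1, htc⟩ := exists_fixed hT h ha ha1 hμ hgR
    have hgN := centralizer_A_normalizes hT h ha ha1 hgR.1
    have hmod := fixed_modEq hgN hg5
    have hdvd := card_dvd_of_le (inf_le_left : T a ⊓ centralizer ({g} : Set G) ≤ T a)
    rw [h81] at hdvd hmod
    have hne : Nat.card ↥(T a ⊓ centralizer ({g} : Set G)) ≠ 1 := fun e =>
      ht1 ((eq_bot_iff_forall _).1 (Subgroup.card_eq_one.1 e) t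
        (Subgroup.mem_inf.2 ⟨ht, mem_centralizer_singleton_iff.2 htc.eq⟩))
    obtain ⟨e, he, he'⟩ := (Nat.dvd_prime_pow Nat.prime_three).1
      (show Nat.card ↥(T a ⊓ centralizer ({g} : Set G)) ∣ 3 ^ 4 by norm_num; exact hdvd)
    have hfull : Nat.card ↥(T a ⊓ centralizer ({g} : Set G)) = 81 := by
      rw [he'] at hmod hne ⊢
      unfold Nat.ModEq at hmod
      interval_cases e <;> simp_all
    have := Subgroup.eq_of_le_of_card_ge inf_le_left (hfull.trans h81.symm).ge
    refine not_centralises hT h ha ha1 hC hgR.1 hgO hg5 (mem_centralizer_iff.2 fun s hs => ?_)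
    have hs' : s ∈ T a ⊓ centralizer ({g} : Set G) := by rw [this]; exact hs
    exact mem_centralizer_singleton_iff.1 hs'.2
  · rw [hk]
    exact (show 625 = 5 ^ 4 by norm_num) ▸ Nat.pow_le_pow_left (by omega) 4

/-- For `o = 9`, `|K| = 3`, the orbit is seen on `T K`. -/
theorem sum_normSq_ge [Fintype (T a)] [Fintype (IrrCharacter (T a))] (hC : TorusCent S A T)
    (hM : IsPModular 2 M) {χ : IrrCharacter G} (hχ : χ ∈ principalBlock M G) {μ : ↥(T a) →* ℂ}
    {d D : ℕ} (hD : weight (χ : G → ℂ) (T a) ((1 : ↥(T a) →* ℂ) : ↥(T a) → ℂ) 1 = D)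
    (h9 : Nat.card ↥(coreA A) = 9) {K : Subgroup G} [Fintype K]
    (hK : K ≤ coreA A ⊓ weightStabA hT h ha ha1 μ) (h3 : Nat.card K = 3)
    {O : Finset (IrrCharacter (T a))}
    (hO : ∀ ν ∈ O, (ν : T a → ℂ) ≠ 1 ∧ weight (χ : G → ℂ) (T a) (ν : T a → ℂ) 1 = d ∧
      ∃ g ∈ centralizer (A : Set G), ∀ t t' : T a, (t' : G) = g * t * g⁻¹ → (ν : T a → ℂ) t = μ t') :
    (Nat.card (T a) : ℝ) * ((D : ℝ) ^ 2 + 6 * ((O.card * d : ℕ) : ℝ)) ≤
      ∑ k : K, ∑ t : T a, Complex.normSq ((χ : G → ℂ) (t * k)) := by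
  classical
  have : IsMulCommutative (T a) := hT.comm a ha ha1
  have hKC : K ≤ centralizer (A : Set G) := hK.trans (inf_le_left.trans (coreA_le A))
  rw [Finset.sum_congr rfl fun (k : K) _ => sum_normSq_eq (T := T a) (χ : G → ℂ) k, ← Finset.mul_sum,
    Finset.sum_comm]
  refine mul_le_mul_of_nonneg_left ?_ (Nat.cast_nonneg _)
  set one : IrrCharacter (T a) := ⟨((1 : ↥(T a) →* ℂ) : ↥(T a) → ℂ), Char.isIrrCharacter_of_hom _⟩
  have hone : one ∉ O := fun e => (hO one e).1 (funext fun t => rfl)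
  refine le_trans ?_ (Finset.sum_le_sum_of_subset_of_nonneg (Finset.subset_univ (insert one O))
    fun ν _ _ => Finset.sum_nonneg fun k _ => Complex.normSq_nonneg _)
  rw [Finset.sum_insert hone]
  refine add_le_add ?_ ?_
  · refine le_trans ?_ (Finset.single_le_sum (fun k _ => Complex.normSq_nonneg _) (Finset.mem_univ (1 : K)))
    show _ ≤ Complex.normSq (weight (χ : G → ℂ) (T a) ((1 : ↥(T a) →* ℂ) : ↥(T a) → ℂ) ((1 : K) : G))
    rw [Subgroup.coe_one, hD, Complex.normSq_natCast]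
    ring_nf
    exact le_rfl
  rw [show (6 : ℝ) * ((O.card * d : ℕ) : ℝ) = ∑ _ν ∈ O, (6 : ℝ) * d by
    rw [Finset.sum_const, nsmul_eq_mul]; push_cast; ring]
  refine Finset.sum_le_sum fun ν hν => ?_
  obtain ⟨hν1, hνd, g, hg, hval⟩ := hO ν hν
  obtain ⟨l, hl⟩ := Char.exists_hom_of_degree_one (Char.IsIrrCharacter.isCharacter ν.2)
    (Char.apply_one_eq_one_of_comm (fun x y => IsMulCommutative.is_comm.comm x y) ν)
  have hl1 : l ≠ 1 := fun e => hν1 (by rw [← hl, e]; rfl)
  have hcen := commute_core_of_nine hT h ha ha1 hC h9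
  have hKR : K ≤ weightStabA hT h ha ha1 l := fun k hk => ⟨hKC hk, fun t t' e => by
    have hgc : g * k = k * g := mem_centralizer_iff.1 (hcen (hK hk).1) g hg
    have hgt : ∀ t : T a, g * (t : G) * g⁻¹ ∈ T a := fun t =>
      (mem_normalizer_iff.1 (centralizer_A_normalizes hT h ha ha1 hg) _).1 t.2
    rw [congrFun hl t', congrFun hl t, hval t ⟨_, hgt t⟩ rfl, hval t' ⟨_, hgt t'⟩ rfl]
    refine (hK hk).2.2 ⟨_, hgt t⟩ ⟨_, hgt t'⟩ ?_
    show g * (t' : G) * g⁻¹ = k * (g * t * g⁻¹) * k⁻¹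
    rw [e, show g * (k * (t : G) * k⁻¹) * g⁻¹ = g * k * t * (g * k)⁻¹ by group, hgc]
    group⟩
  -- the group `K × ⟨a⟩`
  have haa : a * a = 1 := h.sq ha
  set Z := zpowers a
  have hZ : Z ≤ weightStabA hT h ha ha1 l := zpowers_le.2 ⟨h.central (h.le ha), fun t t' e =>
    congrArg l (Subtype.ext (by
      rw [e, (commute_sup hT h ha ha1 (mem_sup_left t.2)).eq, mul_inv_cancel_right]))⟩
  have hcz : ∀ (k : K) (z : Z), Commute (k : G) (z : G) := fun k z => by
    obtain ⟨i, hi⟩ := mem_zpowers_iff.1 z.2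
    rw [← hi]
    exact (show Commute (k : G) a from (mem_centralizer_iff.1 (hKC k.2) a ha).symm).zpow_right i
  let f : K × Z →* ↥(weightStabA hT h ha ha1 l) := MonoidHom.mk'
    (fun q => ⟨(q.1 : G) * q.2, mul_mem (hKR q.1.2) (hZ q.2.2)⟩) fun q q' => Subtype.ext (by
      show ((q.1 * q'.1 : K) : G) * ((q.2 * q'.2 : Z) : G) = (q.1 : G) * q.2 * (q'.1 * q'.2)
      rw [Subgroup.coe_mul, Subgroup.coe_mul, mul_assoc (q.1 : G) (q'.1 : G), ← mul_assoc (q'.1 : G),
        (hcz q'.1 q.2).eq]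
      group)
  have hψ := Char.IsCharacter.comp_hom (isCharacter_weight (Char.IsIrrCharacter.isCharacter χ.2)
    (le_trans (fun x hx => And.left hx : weightStabA hT h ha ha1 l ≤ centralizer (A : Set G))
      (centralizer_A_normalizes hT h ha ha1)) l fun x hx => And.right hx) f
  have hKcomm : ∀ x y : K, x * y = y * x := by
    have := Fact.mk (by norm_num : Nat.Prime 3)
    have := isCyclic_of_prime_card (α := K) (p := 3) h3
    exact fun x y => (IsCyclic.commGroup (α := K)).mul_comm x y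
  have hcomm : ∀ x y : K × Z, x * y = y * x := fun x y =>
    Prod.ext (hKcomm x.1 y.1) (IsMulCommutative.is_comm.comm x.2 y.2)
  have := Fintype.ofFinite Z
  have h1 := card_mul_le_sum_normSq hcomm hψ (d := d) (by simpa [f, hl] using hνd)
  have ha2 : Nat.card Z = 2 := by
    rw [Nat.card_zpowers, orderOf_eq_prime (by rw [pow_two, haa]) ha1]
  rw [Nat.card_prod, h3, ha2, Fintype.sum_prod_type] at h1
  refine le_trans (by push_cast at h1 ⊢; linarith) (Finset.sum_le_sum fun k _ => ?_)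
  have hz : ∀ z : Z, z ≠ 1 → (z : G) = a := fun z hz => by
    obtain ⟨i, hi⟩ := mem_zpowers_iff.1 z.2
    rcases Int.even_or_odd' i with ⟨m, rfl | rfl⟩
    · exact absurd (Subtype.ext (by rw [← hi, zpow_mul, zpow_two, haa, one_zpow]; rfl)) hz
    · rw [← hi, zpow_add, zpow_mul, zpow_two, haa, one_zpow, one_mul, zpow_one]
  rw [Fintype.sum_eq_single (1 : Z) fun z hne => ?_]
  · simp [f, hl]
  have hk0 : weight (χ : G → ℂ) (T a) (l : ↥(T a) → ℂ) ((k : G) * a) = 0 := by
    refine weight_eq_zero (c := (χ : G → ℂ) a) (fun t ht => ?_) hl1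
    rw [← mul_assoc, ← (commute_sup hT h ha ha1 (mul_mem_sup ht (hK k.2).1)).eq,
      hT.apply_mul_inv h ha ha1 hM hχ (mul_mem_sup ht (hK k.2).1)]
  show Complex.normSq (weight (χ : G → ℂ) (T a) (l : ↥(T a) → ℂ) ((k : G) * (z : G))) = 0
  rw [hz z hne, hk0, map_zero]

/-- A principal character with value `-w` at the roots of `a` has degree at least `320 w`. -/
theorem degree_bound (hC : TorusCent S A T) (hM : IsPModular 2 M) {χ : IrrCharacter G}
    (hχ : χ ∈ principalBlock M G) (hne : (χ : G → ℂ) ≠ fun _ => 1) {σ : G} (hσ : σ ∈ (S : Subgroup G))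
    (hσa : σ * σ = a) {N w : ℕ} {u : ℤ} (hN : (χ : G → ℂ) 1 = N) (hu : (χ : G → ℂ) a = u)
    (hw : (χ : G → ℂ) σ = -(w : ℂ)) : 320 * (w : ℝ) ≤ N := by
  classical
  have := Fintype.ofFinite (T a)
  have := Fintype.ofFinite (IrrCharacter (T a))
  have hcomm : IsMulCommutative (T a) := hT.comm a ha ha1
  have hχc := Char.IsIrrCharacter.isCharacter χ.2
  choose l hl using fun ν : IrrCharacter (T a) => Char.exists_hom_of_degree_one
    (Char.IsIrrCharacter.isCharacter ν.2)
    (Char.apply_one_eq_one_of_comm (fun x y => IsMulCommutative.is_comm.comm x y) ν)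
  choose d hd using fun ν : IrrCharacter (T a) => exists_nat_weight hχc (T a) (l ν)
  simp only [hl] at hd
  set one : IrrCharacter (T a) := ⟨((1 : ↥(T a) →* ℂ) : ↥(T a) → ℂ), Char.isIrrCharacter_of_hom _⟩
  have hlne : ∀ ν, ν ≠ one → l ν ≠ 1 := fun ν hν e => hν (Subtype.ext (by rw [← hl ν, e]))
  obtain ⟨hu1, hu2⟩ := hT.fixed_bounds h ha ha1 hM hχ hσ hσa (d := d one) hu
    (w := -(w : ℤ)) (by rw [hw]; push_cast; ring) (hd one)
  have hNsum : N = ∑ ν, d ν := by
    have e := apply_one_eq_sum (T := T a) (χ : G → ℂ)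
    simp only [hd, hN] at e
    exact_mod_cast e
  set n : ℝ := (Nat.card (T a) : ℝ) with hn
  set o : ℝ := (Nat.card ↥(coreA A) : ℝ)
  have hn0 : 0 < n := Nat.cast_pos.2 Nat.card_pos
  have hrest : ∑ ν ∈ Finset.univ.erase one, d ν = N - d one := by
    rw [hNsum, ← Finset.add_sum_erase _ d (Finset.mem_univ one), Nat.add_sub_cancel_left]
  have hDN : d one ≤ N := hNsum ▸ Finset.single_le_sum (fun ν _ => Nat.zero_le (d ν)) (Finset.mem_univ one)
  set sT : ℝ := ∑ t : T a, Complex.normSq ((χ : G → ℂ) t) with hsT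
  have hsq : sT = n * ∑ ν, (d ν : ℝ) ^ 2 := by
    have e := sum_normSq_eq (T := T a) (χ : G → ℂ) 1
    simp only [hd, mul_one, Complex.normSq_natCast] at e
    rw [hsT, e]
    exact congrArg _ (Finset.sum_congr rfl fun ν _ => (pow_two _).symm)
  -- the weights other than the trivial one
  have hev : n * ((d one : ℝ) ^ 2 + 2 * ((N : ℝ) - d one)) ≤ sT := by
    rw [hsq]
    refine mul_le_mul_of_nonneg_left ?_ hn0.le
    rw [← Finset.add_sum_erase _ _ (Finset.mem_univ one), add_le_add_iff_left, ← Nat.cast_sub hDN, ← hrest,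
      Nat.cast_sum, Finset.mul_sum]
    refine Finset.sum_le_sum fun ν hν => ?_
    obtain ⟨i, hi⟩ := even_weight hT h ha ha1 hM hχ (hlne ν (Finset.ne_of_mem_erase hν))
      (by simpa only [hl] using hd ν)
    rw [hi]
    rcases Nat.eq_zero_or_pos i with rfl | hi0
    · simp
    · have : (1 : ℝ) ≤ i := by exact_mod_cast hi0
      push_cast
      nlinarith
  -- the variance
  have hvar : n * ((d one : ℝ) - N / n) ^ 2 + (N : ℝ) ^ 2 ≤ sT := by
    rw [hsT, ← Finset.add_sum_erase _ _ (Finset.mem_univ (1 : T a)), Subgroup.coe_one, hN,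
      Complex.normSq_natCast, add_comm (_ * _), ← pow_two, add_le_add_iff_left]
    set E := (Finset.univ : Finset (T a)).erase 1
    have hE : (E.card : ℝ) ≤ n := by
      rw [hn, Nat.cast_le, Nat.card_eq_fintype_card]; exact Finset.card_le_univ E
    have hre : ∑ t ∈ E, ((χ : G → ℂ) t).re = n * d one - N := by
      have e : ∑ t : T a, (χ : G → ℂ) t = (Nat.card (T a) : ℂ) * d one := by
        rw [← hd one, weight, ← mul_assoc, mul_inv_cancel₀ (Nat.cast_ne_zero.2 Nat.card_pos.ne'), one_mul]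
        exact Finset.sum_congr rfl fun t _ => by simp [one]
      rw [← Finset.add_sum_erase _ _ (Finset.mem_univ (1 : T a)), Subgroup.coe_one, hN] at e
      have := congrArg Complex.re e
      simp only [Complex.add_re, Complex.natCast_re, Complex.re_sum, Complex.mul_re, Complex.natCast_im,
        mul_zero, sub_zero] at this
      rw [← this]
      ring
    have hcs := sq_sum_le_card_mul_sum_sq (s := E) (f := fun t : T a => ((χ : G → ℂ) t).re)
    rw [hre] at hcs
    have h2 : ∑ t ∈ E, ((χ : G → ℂ) t).re ^ 2 ≤ ∑ t ∈ E, Complex.normSq ((χ : G → ℂ) t) :=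
      Finset.sum_le_sum fun t _ => by rw [Complex.normSq_apply]; nlinarith [sq_nonneg ((χ : G → ℂ) t).im]
    have h3 : (0 : ℝ) ≤ ∑ t ∈ E, ((χ : G → ℂ) t).re ^ 2 := Finset.sum_nonneg fun t _ => sq_nonneg _
    rw [show n * ((d one : ℝ) - N / n) ^ 2 = (n * d one - N) ^ 2 / n by field_simp, div_le_iff₀ hn0]
    nlinarith
  -- the budget
  have := Fintype.ofFinite ↥(S : Subgroup G)
  set Rt : Finset G := (Finset.univ.filter fun s : (S : Subgroup G) => (s : G) * s = a).map
    ⟨Subtype.val, Subtype.val_injective⟩ with hRt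
  have hR20 : Rt.card = 20 := by
    rw [hRt, Finset.card_map, ← Fintype.card_subtype, ← Nat.card_eq_fintype_card, h.card_roots ha ha1]
  have hbud : ∀ (K : Subgroup G) [Fintype K], K ≤ coreA A →
      (∀ k ∈ K, k ≠ 1 → (∃ t ∈ T a, t ≠ 1 ∧ Commute t k) ∧
        centralizer ({k} : Set G) ≤ centralizer ({a} : Set G)) →
      (∑ k : K, ∑ t : T a, Complex.normSq ((χ : G → ℂ) (t * k))) +
        n * o * ((u : ℝ) ^ 2 + 20 * (w : ℝ) ^ 2) ≤ 320 * n * o + (N : ℝ) ^ 2 := by
    intro K _ hK hfix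
    have hb := budget h hT hC ha ha1 χ (O := T a ⊔ coreA A) (K := K)
      (sup_le_centralizer hT h ha ha1) (fun g hg ρ hρ => hT.conj_mem_sup h ha ha1 hg hρ)
      (hT.odd_sup h ha ha1) le_sup_left (hK.trans le_sup_right)
      (((hT.coprime a ha ha1).coprime_dvd_right (card_dvd_of_le hK)).symm) hfix Rt
      (fun s hs => by
        rw [hRt, Finset.mem_map] at hs
        obtain ⟨s, hs, rfl⟩ := hs
        exact ⟨s.2, (Finset.mem_filter.1 hs).2⟩)
      (u := (u : ℂ)) (w := -(w : ℂ))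
      (fun ρ hρ => (hT.apply_mul_inv h ha ha1 hM hχ hρ).trans hu) (fun s hs ρ hρ => by
        rw [hRt, Finset.mem_map] at hs
        obtain ⟨s, hs, rfl⟩ := hs
        obtain ⟨c, hc⟩ := isConj_iff.1 (h.isConj_root hT ha ha1 hσ hσa (h.central s.2)
          ((Finset.mem_filter.1 hs).2.symm ▸ ha) (by rw [(Finset.mem_filter.1 hs).2]; exact ha1))
        rw [show ((⟨Subtype.val, Subtype.val_injective⟩ : (S : Subgroup G) ↪ G) s) = (s : G) from rfl,
          hT.apply_mul_root h ha ha1 hM hχ (Finset.mem_filter.1 hs).2 hρ, ← hc,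
          Char.IsIrrCharacter.isClassFunction χ.2, hw])
    rw [hR20, hT.card_centralizer h ha ha1, hT.card_centralizer_A h ha ha1, hT.card_sup h ha ha1, hN,
      Complex.normSq_intCast, Complex.normSq_neg, Complex.normSq_natCast, Complex.normSq_natCast] at hb
    push_cast at hb
    rw [hn]
    nlinarith [hb]
  have hbud0 : sT + n * o * ((u : ℝ) ^ 2 + 20 * (w : ℝ) ^ 2) ≤ 320 * n * o + (N : ℝ) ^ 2 := by
    have := Fintype.ofFinite (⊥ : Subgroup G)
    have hb := hbud ⊥ bot_le (fun k hk hk1 => absurd (mem_bot.1 hk) hk1)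
    rwa [Fintype.sum_unique, show ((default : (⊥ : Subgroup G)) : G) = 1 from mem_bot.1 (default : (⊥ : Subgroup G)).2,
      Finset.sum_congr rfl fun (t : T a) _ => by rw [mul_one]] at hb
  -- a non-trivial weight
  obtain ⟨ν, hν, hdν⟩ : ∃ ν, ν ≠ one ∧ d ν ≠ 0 := by
    by_contra hno
    push Not at hno
    obtain ⟨t, ht, hne'⟩ := exists_apply_ne_one hne (hT.ne a ha ha1)
    have hcl : IsClassFunction (T a) (fun t : T a => (χ : G → ℂ) t) := fun s r => by
      show (χ : G → ℂ) _ = (χ : G → ℂ) _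
      rw [IsMulCommutative.is_comm.comm r s, mul_inv_cancel_right]
    have e := fun t : T a => congrFun (Char.classFunction_eq_sum hcl) t
    simp only [Finset.sum_apply, Pi.smul_apply, smul_eq_mul, ← weight_one, hd] at e
    have e' : ∀ t : T a, (χ : G → ℂ) t = (d one : ℂ) := fun t => by
      rw [e t, Finset.sum_eq_single one (fun ν _ hν => by rw [hno ν hν]; simp)
        (fun h => absurd (Finset.mem_univ _) h)]
      simp [one]
    exact hne' ((e' ⟨t, ht⟩).trans (e' 1).symm)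
  obtain ⟨j, O, hjdvd, hjo, hjK, hO, hcase⟩ := exists_orbit hT h ha ha1 hC hM hχ (hlne ν hν)
    (d := d ν) (by simpa only [hl] using hd ν) hdν
  have hOle : d one + O.card * d ν ≤ N := by
    have h1 : ∑ ν' ∈ O, d ν' ≤ ∑ ν' ∈ Finset.univ.erase one, d ν' :=
      Finset.sum_le_sum_of_subset fun ν' hν' => Finset.mem_erase.2
        ⟨fun e => (hO ν' hν').1 (by rw [e]; rfl), Finset.mem_univ _⟩
    rw [Finset.sum_congr rfl fun ν' hν' => show d ν' = d ν from
      Nat.cast_injective (R := ℂ) ((hd ν').symm.trans (hO ν' hν').2.1), Finset.sum_const, smul_eq_mul,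
      hrest] at h1
    omega
  have hn81 : (81 : ℝ) ≤ n := by
    obtain ⟨k, hk3, hk⟩ := hC.bound a ha ha1
    rw [hn, hk]
    exact_mod_cast (show 81 = 3 ^ 4 by norm_num) ▸ Nat.pow_le_pow_left hk3 4
  refine degree_ge (o := Nat.card ↥(coreA A)) (j := j) (n := n) (N := N) (D := (d one : ℝ)) (u := (u : ℝ))
    Nat.card_pos hjdvd (odd_coreA A) hjo (by exact_mod_cast hu1) ?_ (Nat.cast_le.2 hDN) hn81 ?_ ?_ ?_
  · have h2 : (60 * w : ℤ) ≤ (d one : ℤ) + 3 * u := by linarith
    exact_mod_cast h2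
  · rw [← mul_le_mul_iff_of_pos_left hn0, mul_add n (320 * _), mul_div_cancel₀ _ hn0.ne']
    nlinarith
  · rw [← mul_le_mul_iff_of_pos_left hn0]
    nlinarith
  · rcases hcase with hc | ⟨hc, h625⟩
    · exact Or.inl (by exact_mod_cast (show d one + 320 * j ≤ N by omega))
    refine Or.inr ⟨by rw [hn]; exact_mod_cast h625, by exact_mod_cast (show d one + 64 * j ≤ N by omega),
      fun h9 hj3 => ?_⟩
    subst hj3
    rw [h9] at hjK
    have h3 : Nat.card ↥(coreA A ⊓ weightStabA hT h ha ha1 (l ν)) = 3 := by omega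
    have := Fintype.ofFinite ↥(coreA A ⊓ weightStabA hT h ha ha1 (l ν))
    have h4 := sum_normSq_ge hT h ha ha1 hC hM hχ (D := d one) (hd one) h9 le_rfl h3 hO
    have h5 := hbud _ inf_le_left fun k hk hk1 => by
      obtain ⟨t, ht, ht1, hc⟩ := exists_fixed hT h ha ha1 (hlne ν hν) hk.2
      exact ⟨⟨t, ht, ht1, hc⟩, hC.fixer k hk.1 hk1 a ha ha1 t ht ht1 hc.eq⟩
    have hc' : (192 : ℝ) ≤ ((O.card * d ν : ℕ) : ℝ) := by exact_mod_cast hc
    rw [← mul_le_mul_iff_of_pos_left hn0, mul_add n (320 * _), mul_div_cancel₀ _ hn0.ne']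
    nlinarith

end TorusData

end Cfsg.Agent.Goldschmidt.ThreeInv
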