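import Cfsg.Agent.Lib.Char.Linear
import Cfsg.Agent.Lib.Char.Orth
import Mathlib.GroupTheory.SemidirectProduct
import Mathlib.GroupTheory.SpecificGroups.Cyclic

/-!
# Three involutions, section 3: weights of an abelian subgroup (owner: helper84)

For a character `χ`, a subgroup `T`, a linear character `μ` of `T` and `g`, the weight function is
`weight χ T μ g = |T|⁻¹ ∑ t, χ (t g) conj (μ t)`.

* `isCharacter_weight` : on a subgroup normalising `T` and fixing `μ` it is a character
* `exists_nat_weight`, `sum_normSq_eq`, `apply_one_eq_sum` : multiplicities, Parseval, the degree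
* `weight_eq_zero` : a function constant on a coset has no weight but the trivial one
-/

set_option autoImplicit false

open scoped ComplexConjugate

namespace Cfsg.Agent.Goldschmidt.ThreeInv

open Cfsg Subgroup

universe u

variable {G : Type u} [Group G]

/-- The weight function. -/
noncomputable def weight (χ : G → ℂ) (T : Subgroup G) [Fintype T] (μ : T → ℂ) (g : G) : ℂ :=
  (Nat.card T : ℂ)⁻¹ * ∑ t : T, χ (t * g) * conj (μ t)

theorem weight_one (χ : G → ℂ) (T : Subgroup G) [Fintype T] (μ : T → ℂ) :
    weight χ T μ 1 = classInner (fun t : T => χ t) μ := by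
  rw [weight, classInner]
  simp

/-- On a subgroup normalising `T` and fixing `μ` the weight function is a character. -/
theorem isCharacter_weight [Finite G] {χ : G → ℂ} (hχ : IsCharacter G χ) {T L : Subgroup G} [Fintype T]
    (hN : L ≤ normalizer (T : Set G)) (μ : T →* ℂ)
    (hμ : ∀ l ∈ L, ∀ t t' : T, (t' : G) = l * t * l⁻¹ → μ t' = μ t) :
    IsCharacter L (fun l : L => weight χ T μ l) := by
  classical
  have : Fintype L := Fintype.ofFinite L
  have hc : ∀ l : L, ∀ t : T, (l : G) * t * (l : G)⁻¹ ∈ T := fun l t =>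
    (mem_normalizer_iff.1 (hN l.2) _).1 t.2
  let φ : L →* MulAut T :=
    { toFun := fun l =>
        { toFun := fun t => ⟨(l : G) * t * (l : G)⁻¹, hc l t⟩
          invFun := fun t => ⟨((l⁻¹ : L) : G) * t * ((l⁻¹ : L) : G)⁻¹, hc l⁻¹ t⟩
          left_inv := fun t => Subtype.ext (by simp [mul_assoc])
          right_inv := fun t => Subtype.ext (by simp [mul_assoc])
          map_mul' := fun s t => Subtype.ext (by simp [mul_assoc]) }
      map_one' := MulEquiv.ext fun t => Subtype.ext (by simp)
      map_mul' := fun l m => MulEquiv.ext fun t => Subtype.ext (by simp [mul_assoc]) }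
  have : Finite (T ⋊[φ] L) := Finite.of_equiv _ SemidirectProduct.equivProd.symm
  have : Fintype (T ⋊[φ] L) := Fintype.ofFinite _
  let f : T ⋊[φ] L →* G := SemidirectProduct.lift T.subtype L.subtype fun l =>
    MonoidHom.ext fun t => by simp [φ, MulAut.conj_apply]
  let m : T ⋊[φ] L →* ℂ :=
    { toFun := fun x => μ x.left
      map_one' := by simp
      map_mul' := fun x y => by
        rw [SemidirectProduct.mul_left, map_mul, hμ _ x.right.2 y.left (φ x.right y.left) rfl] }
  refine Char.isCharacter_of_classFunction ?_ fun θ => ?_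
  · intro g x
    show weight χ T μ _ = weight χ T μ _
    simp only [weight, Subgroup.coe_mul, Subgroup.coe_inv]
    congr 1
    refine (Fintype.sum_equiv (φ x).toEquiv _ _ fun t => ?_).symm
    have e : ((φ x t : T) : G) = (x : G) * t * (x : G)⁻¹ := rfl
    simp only [MulEquiv.toEquiv_eq_coe, MulEquiv.coe_toEquiv]
    rw [hμ _ x.2 t (φ x t) e, e]
    have hcl : ∀ g y : G, χ (y * g * y⁻¹) = χ g := by
      obtain ⟨n, ρ, rfl⟩ := hχ
      intro g y
      exact ρ.char_conj g y
    rw [← hcl ((t : G) * g) (x : G)]
    congr 2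
    group
  obtain ⟨k, hk⟩ := Char.IsCharacter.classInner_nat (Char.IsCharacter.comp_hom hχ f)
    (show IsCharacter (T ⋊[φ] L) (fun x => (θ : L → ℂ) x.right * m x) from
      Char.IsIrrCharacter.isCharacter (Char.IsIrrCharacter.mul_linear
        (show IsIrrCharacter (T ⋊[φ] L) (fun x => (θ : L → ℂ) x.right) from
          Char.IsIrrCharacter.comp_surjective θ.2 SemidirectProduct.rightHom
            SemidirectProduct.rightHom_surjective) m))
  refine ⟨k, ?_⟩
  rw [← hk, classInner, classInner, ← Equiv.sum_comp SemidirectProduct.equivProd.symm,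
    Fintype.sum_prod_type, Finset.sum_comm, Nat.card_congr SemidirectProduct.equivProd, Nat.card_prod,
    Nat.cast_mul, mul_inv, Finset.mul_sum, Finset.mul_sum]
  refine Finset.sum_congr rfl fun l _ => ?_
  simp only [weight, m, f, MonoidHom.coe_mk, OneHom.coe_mk, map_mul,
    SemidirectProduct.lift, SemidirectProduct.equivProd, Equiv.coe_fn_symm_mk,
    Subgroup.coe_subtype, Finset.mul_sum, Finset.sum_mul]
  refine Finset.sum_congr rfl fun t _ => ?_
  ring

/-- Each multiplicity is a natural number. -/
theorem exists_nat_weight {χ : G → ℂ} (hχ : IsCharacter G χ) (T : Subgroup G) [Fintype T] (μ : T →* ℂ) :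
    ∃ d : ℕ, weight χ T μ 1 = d := by
  rw [weight_one]
  exact Char.IsCharacter.classInner_nat (Char.IsCharacter.comp_hom hχ T.subtype)
    (Char.isCharacter_of_hom μ)

/-- Parseval on an abelian group. -/
theorem sum_normSq_eq {T : Subgroup G} [Fintype T] [Fintype (IrrCharacter T)] [IsMulCommutative T]
    (χ : G → ℂ) (g : G) :
    ∑ t : T, Complex.normSq (χ (t * g)) =
      (Nat.card T : ℝ) * ∑ μ : IrrCharacter T, Complex.normSq (weight χ T (μ : T → ℂ) g) := by
  have hcl : IsClassFunction T (fun t : T => χ (t * g)) := fun s t => by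
    show χ _ = χ _
    rw [IsMulCommutative.is_comm.comm t s, mul_inv_cancel_right]
  have h1 := Char.card_mul_classInner (fun t : T => χ (t * g)) (fun t : T => χ (t * g))
  rw [Char.classInner_eq_sum hcl] at h1
  refine Complex.ofReal_injective ?_
  push_cast
  simp only [Complex.normSq_eq_conj_mul_self, mul_comm (conj _)]
  rw [← h1]
  rfl

/-- The degree is the sum of the multiplicities. -/
theorem apply_one_eq_sum {T : Subgroup G} [Fintype T] [Fintype (IrrCharacter T)] [IsMulCommutative T]
    (χ : G → ℂ) : χ 1 = ∑ μ : IrrCharacter T, weight χ T (μ : T → ℂ) 1 := by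
  have hcl : IsClassFunction T (fun t : T => χ t) := fun s t => by
    show χ _ = χ _
    rw [IsMulCommutative.is_comm.comm t s, mul_inv_cancel_right]
  have e := congrFun (Char.classFunction_eq_sum hcl) 1
  simp only [Finset.sum_apply, Pi.smul_apply, smul_eq_mul, OneMemClass.coe_one] at e
  rw [e]
  refine Finset.sum_congr rfl fun μ _ => ?_
  rw [weight_one, Char.apply_one_eq_one_of_comm (fun a b => IsMulCommutative.is_comm.comm a b) μ,
    mul_one]

/-- A function constant on `T g` has weight zero at every non-trivial `μ`. -/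
theorem weight_eq_zero {T : Subgroup G} [Fintype T] {χ : G → ℂ} {g : G} {c : ℂ}
    (hc : ∀ t ∈ T, χ (t * g) = c) {μ : T →* ℂ} (hμ : μ ≠ 1) : weight χ T μ g = 0 := by
  rw [weight, Finset.sum_congr rfl fun (t : T) _ => by rw [hc t t.2], ← Finset.mul_sum, ← map_sum,
    sum_hom_units_eq_zero μ hμ, map_zero, mul_zero, mul_zero]

end Cfsg.Agent.Goldschmidt.ThreeInv
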